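import Cfsg.Agent.H209.Five.Hom
import Cfsg.Agent.H209.Five.Defs
import Cfsg.Agent.Lib.Cores
import Mathlib.GroupTheory.FixedPointFree
import Cfsg.Agent.Lib.ProductSet
import Cfsg.Prelude.Def_CaseTheorems
import Cfsg.Agent.S0201
import Cfsg.Agent.S0949
import Cfsg.Agent.S1208
import Cfsg.Agent.S1210
import Cfsg.Agent.S1212
import Cfsg.Agent.TwoFusion.WreathedOddAut
import Cfsg.Agent.H209.Five.Push_mg
set_option linter.all false

-- part: H973/Five/Sol
section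
/-!
# S3568, solvable local action: the action of `A` on the five cosets (helper973, for helper209)
-/

set_option autoImplicit false
set_option linter.unusedSectionVars false

open Pointwise

namespace Cfsg.Agent.H973.Five

open Cfsg.Agent.H399 Cfsg.Agent.H209.Five

/-! ### permutations of five points -/

theorem reach : ∀ τ : Equiv.Perm (Fin 5), τ ^ 5 = 1 → τ ≠ 1 → ∀ i : Fin 5, ∃ k : Fin 5, (τ ^ (k : ℕ)) 0 = i := by
  decide +kernel

theorem eq_one_of_comm {σ τ : Equiv.Perm (Fin 5)} (h5 : τ ^ 5 = 1) (h1 : τ ≠ 1) (h0 : σ 0 = 0) (hc : σ * τ = τ * σ) :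
    σ = 1 := by
  ext i
  obtain ⟨k, rfl⟩ := reach τ h5 h1 i
  have h2 : Commute σ (τ ^ (k : ℕ)) := Commute.pow_right hc _
  have h3 := congrArg (fun ρ : Equiv.Perm (Fin 5) => ρ 0) h2.eq
  simp only [Equiv.Perm.mul_apply, h0] at h3
  rw [h3, Equiv.Perm.one_apply]

/-- a subgroup of order dividing 40 has a normal subgroup of order 5 -/
theorem mem_zpowers {R : Subgroup (Equiv.Perm (Fin 5))} (hR : Nat.card R ∣ 40) {τ σ : Equiv.Perm (Fin 5)} (hτ : τ ∈ R)
    (hσ : σ ∈ R) (h5 : τ ^ 5 = 1) : σ * τ * σ⁻¹ ∈ Subgroup.zpowers τ := by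
  have hp : Fact (Nat.Prime 5) := ⟨Nat.prime_five⟩
  by_cases h1 : τ = 1
  · rw [h1]; simp
  have ho : orderOf (⟨τ, hτ⟩ : R) = 5 :=
    orderOf_eq_prime (Subtype.ext h5) (fun h => h1 (congrArg Subtype.val h))
  obtain ⟨m, hm⟩ : 5 ∣ Nat.card R := by
    have h2 := orderOf_dvd_natCard (⟨τ, hτ⟩ : R)
    rwa [ho] at h2
  have hm8 : m ∣ 8 := by
    rw [hm] at hR
    exact Nat.dvd_of_mul_dvd_mul_left (by norm_num : 0 < 5) hR
  have hm5 : ¬ 5 ∣ m := fun h => by
    have := h.trans hm8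
    omega
  have hm0 : m ≠ 0 := fun h => by
    rw [h] at hm8
    omega
  have hc : Nat.card (Subgroup.zpowers (⟨τ, hτ⟩ : R)) = 5 ^ (Nat.card R).factorization 5 := by
    rw [Nat.card_zpowers, ho, hm, Nat.factorization_mul (by norm_num) hm0]
    simp only [Finsupp.add_apply]
    rw [Nat.Prime.factorization_self Nat.prime_five, Nat.factorization_eq_zero_of_not_dvd hm5]
    norm_num
  let P : Sylow 5 R := Sylow.ofCard _ hc
  have hP : (P : Subgroup R) = Subgroup.zpowers (⟨τ, hτ⟩ : R) := rfl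
  have h2 : Nat.card (Sylow 5 R) ∣ 8 := by
    refine (Sylow.card_dvd_index P).trans ?_
    have h3 := Subgroup.index_mul_card (P : Subgroup R)
    rw [hP, Nat.card_zpowers, ho, hm, mul_comm 5 m] at h3
    have h4 := Nat.eq_of_mul_eq_mul_right (by norm_num : 0 < 5) h3
    rw [hP, h4]
    exact hm8
  have h3 := card_sylow_modEq_one 5 R
  have h4 : Nat.card (Sylow 5 R) = 1 := by
    unfold Nat.ModEq at h3
    have h5 : Nat.card (Sylow 5 R) ≤ 8 := Nat.le_of_dvd (by norm_num) h2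
    generalize Nat.card (Sylow 5 R) = k at h2 h3 h5
    interval_cases k <;> simp_all
    all_goals omega
  have h6 : Subsingleton (Sylow 5 R) := (Nat.card_eq_one_iff_unique.1 h4).1
  have h7 : ((⟨σ, hσ⟩ : R) • P : Sylow 5 R) = P := Subsingleton.elim _ _
  have h8 : (⟨σ, hσ⟩ : R) * ⟨τ, hτ⟩ * (⟨σ, hσ⟩ : R)⁻¹ ∈ ((⟨σ, hσ⟩ : R) • P : Sylow 5 R) := by
    have : (⟨τ, hτ⟩ : R) ∈ (P : Subgroup R) := Subgroup.mem_zpowers _
    exact Subgroup.smul_mem_pointwise_smul _ (MulAut.conj (⟨σ, hσ⟩ : R)) _ this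
  rw [h7] at h8
  have h9 : (⟨σ, hσ⟩ : R) * ⟨τ, hτ⟩ * (⟨σ, hσ⟩ : R)⁻¹ ∈ Subgroup.zpowers (⟨τ, hτ⟩ : R) := h8
  obtain ⟨k, hk⟩ := h9
  exact ⟨k, congrArg Subtype.val hk⟩

theorem exists_pow {τ ρ : Equiv.Perm (Fin 5)} (h5 : τ ^ 5 = 1) (h : ρ ∈ Subgroup.zpowers τ) :
    ∃ j : ℕ, j < 5 ∧ ρ = τ ^ j := by
  obtain ⟨k, rfl⟩ := h
  refine ⟨(k % 5).toNat, by omega, ?_⟩
  have h1 : τ ^ k = τ ^ (k % 5) := by
    conv_lhs => rw [← Int.mul_ediv_add_emod k 5]
    rw [zpow_add, zpow_mul]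
    have : τ ^ (5 : ℤ) = 1 := h5
    rw [this, one_zpow, one_mul]
  rw [← zpow_natCast, Int.toNat_of_nonneg (Int.emod_nonneg _ (by norm_num))]
  exact h1

/-- an involution fixing a point and normalising a subgroup of order 5 inverts it -/
theorem inv_of_sq {σ τ : Equiv.Perm (Fin 5)} (h5 : τ ^ 5 = 1) (h1 : τ ≠ 1) (h0 : σ 0 = 0) (hσ : σ * σ = 1)
    (hσ1 : σ ≠ 1) (h : σ * τ * σ⁻¹ ∈ Subgroup.zpowers τ) : σ * τ * σ⁻¹ = τ⁻¹ := by
  obtain ⟨j, hj, he⟩ := exists_pow h5 h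
  have h2 : τ = τ ^ (j * j) := by
    have h3 : σ * (σ * τ * σ⁻¹) * σ⁻¹ = τ := by
      calc σ * (σ * τ * σ⁻¹) * σ⁻¹ = σ * σ * τ * (σ * σ)⁻¹ := by group
        _ = τ := by rw [hσ]; group
    rw [he, ← conj_pow, he, ← pow_mul] at h3
    exact h3.symm
  have h3 : τ ^ 3 ≠ 1 := by
    intro h3
    apply h1
    calc τ = (τ ^ 3) ^ 2 * (τ ^ 5)⁻¹ := by group
      _ = 1 := by rw [h3, h5]; simp
  rw [he]
  interval_cases j
  · exfalso
    rw [pow_zero] at he
    apply h1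
    calc τ = σ⁻¹ * (σ * τ * σ⁻¹) * σ := by group
      _ = 1 := by rw [he]; group
  · exfalso
    apply hσ1
    apply eq_one_of_comm h5 h1 h0
    rw [pow_one] at he
    calc σ * τ = σ * τ * σ⁻¹ * σ := by group
      _ = τ * σ := by rw [he]
  · exfalso
    apply h3
    have h4 : τ * τ ^ 3 = τ := by
      rw [← pow_succ']
      exact h2.symm
    exact mul_eq_left.1 h4
  · exfalso
    apply h3
    have h4 : τ ^ 4 = τ := by
      calc τ ^ 4 = τ ^ (3 * 3) * (τ ^ 5)⁻¹ := by group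
        _ = τ := by rw [← h2, h5]; simp
    have h6 : τ * τ ^ 3 = τ := by
      rw [← pow_succ']
      exact h4
    exact mul_eq_left.1 h6
  · rw [eq_inv_iff_mul_eq_one, ← pow_succ]
    exact h5

/-- The facts on `A` acting on the cosets of `C`. -/
structure Sol {G : Type*} [Group G] (A C : Subgroup G) : Prop where
  le : C ≤ A
  idx : C.relIndex A = 5
  four : (core A C).relIndex C = 1 ∨ (core A C).relIndex C = 2 ∨ (core A C).relIndex C = 4
  nc : ∀ c ∈ A, c ∉ core A C → c ^ 5 ∈ core A C → ∀ b ∈ C, b ∉ core A C → b * c * b⁻¹ * c⁻¹ ∉ core A C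
  five : ∀ c ∈ A, c ^ 5 ∈ core A C → ∀ b ∈ A, (b * c * b⁻¹ * c⁻¹) ^ 5 ∈ core A C
  inv : ∀ b ∈ C, ∀ b' ∈ C, b * b ∈ core A C → b' * b' ∈ core A C → b ∈ core A C ∨ b' ∈ core A C ∨ b * b' ∈ core A C

theorem sol_of {G : Type*} [Group G] [Finite G] {A C : Subgroup G} (hCA : C ≤ A) (h5 : C.relIndex A = 5)
    (h3 : ¬ 3 ∣ (core A C).relIndex A) : Sol A C := by
  classical
  have hp : Fact (Nat.Prime 5) := ⟨Nat.prime_five⟩
  obtain ⟨φ, hφ⟩ := exists_hom5 h5
  have hd := Hom5.relIndex_dvd hφ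
  have hR : Nat.card φ.range ∣ 40 := by
    rw [hφ.card_range]
    have h6 : ((core A C).relIndex A).Coprime 3 := ((Nat.Prime.coprime_iff_not_dvd Nat.prime_three).2 h3).symm
    have h7 : (core A C).relIndex A ∣ 40 * 3 := hd
    exact h6.dvd_of_dvd_mul_right h7
  have hker : ∀ a (ha : a ∈ A), a ∈ core A C ↔ φ ⟨a, ha⟩ = 1 := fun a ha => hφ.ker ⟨a, ha⟩
  have hstab : ∀ a (ha : a ∈ A), a ∈ C ↔ φ ⟨a, ha⟩ 0 = 0 := fun a ha => hφ.stab ⟨a, ha⟩
  have hmem : ∀ a : A, φ a ∈ φ.range := fun a => ⟨a, rfl⟩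
  -- an element of order 5
  obtain ⟨τ, hτR, hτ5, hτ1⟩ : ∃ τ ∈ φ.range, τ ^ 5 = 1 ∧ τ ≠ 1 := by
    have h6 : 5 ∣ Nat.card φ.range := by
      rw [hφ.card_range]
      exact Hom5.five_dvd h5 hCA
    obtain ⟨t, ht⟩ := exists_prime_orderOf_dvd_card' 5 h6
    refine ⟨t, t.2, ?_, ?_⟩
    · have := pow_orderOf_eq_one t
      rw [ht] at this
      exact congrArg Subtype.val this
    · intro h
      have h7 : t = 1 := Subtype.ext h
      rw [h7, orderOf_one] at ht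
      norm_num at ht
  have cmem : ∀ {a}, a ∈ C → a ∈ A := fun h => hCA h
  refine ⟨hCA, h5, ?_, ?_, ?_, ?_⟩
  · -- the order of the point stabiliser
    have h6 := hφ.relIndex_core_eq hCA
    set M := (C.subgroupOf A).map φ with hM
    have hM0 : ∀ σ ∈ M, σ ∈ φ.range ∧ σ 0 = 0 := by
      rintro _ ⟨a, ha, rfl⟩
      exact ⟨⟨a, rfl⟩, (hφ.stab a).1 ha⟩
    have hle : Nat.card M ≤ 4 := by
      have hinj : Function.Injective (fun σ : M => (⟨(σ : Equiv.Perm (Fin 5)) (τ 0), by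
          intro h
          have h7 := (hM0 σ σ.2).2
          have h8 : τ 0 = 0 := (σ : Equiv.Perm (Fin 5)).injective (h.trans h7.symm)
          apply hτ1
          ext i
          obtain ⟨k, rfl⟩ := reach τ hτ5 hτ1 i
          have h9 : ∀ k : ℕ, (τ ^ k) 0 = 0 := by
            intro k
            induction k with
            | zero => rfl
            | succ k ih => rw [pow_succ, Equiv.Perm.mul_apply, h8, ih]
          rw [h9, h8]; rfl⟩ : {i : Fin 5 // i ≠ 0})) := by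
        rintro ⟨σ, hσ⟩ ⟨σ', hσ'⟩ h
        have h7 : σ (τ 0) = σ' (τ 0) := congrArg Subtype.val h
        obtain ⟨h8, h9⟩ := hM0 σ hσ
        obtain ⟨h8', h9'⟩ := hM0 σ' hσ'
        have hi : σ⁻¹ 0 = 0 := by rw [Equiv.Perm.inv_eq_iff_eq, h9]
        have hi' : σ'⁻¹ 0 = 0 := by rw [Equiv.Perm.inv_eq_iff_eq, h9']
        obtain ⟨k, hk⟩ := mem_zpowers hR hτR h8 hτ5
        obtain ⟨k', hk'⟩ := mem_zpowers hR hτR h8' hτ5
        have hk : τ ^ k = σ * τ * σ⁻¹ := hk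
        have hk' : τ ^ k' = σ' * τ * σ'⁻¹ := hk'
        have e1 : (τ ^ k) 0 = σ (τ 0) := by
          rw [hk, Equiv.Perm.mul_apply, Equiv.Perm.mul_apply, hi]
        have e2 : (τ ^ k') 0 = σ' (τ 0) := by
          rw [hk', Equiv.Perm.mul_apply, Equiv.Perm.mul_apply, hi']
        have e3 : (τ ^ k) 0 = (τ ^ k') 0 := by rw [e1, e2, h7]
        have e4 : (τ ^ k')⁻¹ * τ ^ k = 1 := by
          apply eq_one_of_comm hτ5 hτ1
          · rw [Equiv.Perm.mul_apply, e3]; simp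
          · have : Commute τ ((τ ^ k')⁻¹ * τ ^ k) :=
              (((Commute.refl τ).zpow_right k').inv_right).mul_right ((Commute.refl τ).zpow_right k)
            exact this.eq.symm
        have e5 : τ ^ k = τ ^ k' := (inv_mul_eq_one.1 e4).symm
        rw [hk, hk'] at e5
        have e6 : σ'⁻¹ * σ = 1 := by
          apply eq_one_of_comm hτ5 hτ1
          · rw [Equiv.Perm.mul_apply, h9, hi']
          · calc σ'⁻¹ * σ * τ = σ'⁻¹ * (σ * τ * σ⁻¹) * σ := by group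
              _ = σ'⁻¹ * (σ' * τ * σ'⁻¹) * σ := by rw [e5]
              _ = τ * (σ'⁻¹ * σ) := by group
        apply Subtype.ext
        exact (inv_mul_eq_one.1 e6).symm
      have h10 := Nat.card_le_card_of_injective _ hinj
      refine h10.trans (le_of_eq ?_)
      rw [Nat.card_eq_fintype_card]
      rfl
    have hdvd : Nat.card M ∣ 8 := by
      have h7 := Subgroup.relIndex_mul_relIndex _ _ _ (core_le A C) hCA
      rw [h5, ← hφ.card_range, h6] at h7
      rw [← h7] at hR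
      have : Nat.card M * 5 ∣ 8 * 5 := hR
      exact Nat.dvd_of_mul_dvd_mul_right (by norm_num) this
    rw [h6]
    generalize Nat.card M = k at hle hdvd
    interval_cases k <;> simp_all
  · intro c hc hcK hc5 b hb hbK h
    have hb' := cmem hb
    rw [hker c hc] at hcK
    rw [hker _ (A.pow_mem hc 5)] at hc5
    have hc5' : φ ⟨c, hc⟩ ^ 5 = 1 := by
      rw [← map_pow]
      exact hc5
    rw [hker b hb'] at hbK
    rw [hker _ (A.mul_mem (A.mul_mem (A.mul_mem hb' hc) (A.inv_mem hb')) (A.inv_mem hc))] at h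
    have h' : φ ⟨b, hb'⟩ * φ ⟨c, hc⟩ * (φ ⟨b, hb'⟩)⁻¹ * (φ ⟨c, hc⟩)⁻¹ = 1 := by
      rw [← map_inv, ← map_inv, ← map_mul, ← map_mul, ← map_mul]
      exact h
    apply hbK
    apply eq_one_of_comm hc5' hcK ((hstab b hb').1 hb)
    have h2 : φ ⟨b, hb'⟩ * φ ⟨c, hc⟩ = (φ ⟨b, hb'⟩ * φ ⟨c, hc⟩ * (φ ⟨b, hb'⟩)⁻¹ * (φ ⟨c, hc⟩)⁻¹) *
      (φ ⟨c, hc⟩ * φ ⟨b, hb'⟩) := by group
    rw [h2, h', one_mul]
  · intro c hc hc5 b hb
    rw [hker _ (A.pow_mem hc 5)] at hc5
    have hc5' : φ ⟨c, hc⟩ ^ 5 = 1 := by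
      rw [← map_pow]
      exact hc5
    rw [hker _ (A.pow_mem (A.mul_mem (A.mul_mem (A.mul_mem hb hc) (A.inv_mem hb)) (A.inv_mem hc)) 5)]
    obtain ⟨k, hk⟩ := mem_zpowers hR (hmem ⟨c, hc⟩) (hmem ⟨b, hb⟩) hc5'
    have hk : φ ⟨c, hc⟩ ^ k = φ ⟨b, hb⟩ * φ ⟨c, hc⟩ * (φ ⟨b, hb⟩)⁻¹ := hk
    have h' : φ ⟨b, hb⟩ * φ ⟨c, hc⟩ * (φ ⟨b, hb⟩)⁻¹ * (φ ⟨c, hc⟩)⁻¹ = φ ⟨c, hc⟩ ^ (k - 1) := by
      rw [← hk, zpow_sub_one]
    have h2 : (φ ⟨b, hb⟩ * φ ⟨c, hc⟩ * (φ ⟨b, hb⟩)⁻¹ * (φ ⟨c, hc⟩)⁻¹) ^ 5 = 1 := by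
      rw [h', ← zpow_natCast, ← zpow_mul, mul_comm, zpow_mul]
      have : φ ⟨c, hc⟩ ^ ((5 : ℕ) : ℤ) = 1 := by rw [zpow_natCast]; exact hc5'
      rw [this, one_zpow]
    rw [← map_inv, ← map_inv, ← map_mul, ← map_mul, ← map_mul, ← map_pow] at h2
    exact h2
  · intro b hb b' hb' h h'
    have hbA := cmem hb
    have hbA' := cmem hb'
    rw [hker b hbA, hker b' hbA', hker _ (A.mul_mem hbA hbA')]
    rw [hker _ (A.mul_mem hbA hbA)] at h
    rw [hker _ (A.mul_mem hbA' hbA')] at h'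
    have e : φ ⟨b, hbA⟩ * φ ⟨b, hbA⟩ = 1 := by rw [← map_mul]; exact h
    have e' : φ ⟨b', hbA'⟩ * φ ⟨b', hbA'⟩ = 1 := by rw [← map_mul]; exact h'
    have em : φ ⟨b * b', A.mul_mem hbA hbA'⟩ = φ ⟨b, hbA⟩ * φ ⟨b', hbA'⟩ := by rw [← map_mul]; rfl
    rw [em]
    have z := (hstab b hbA).1 hb
    have z' := (hstab b' hbA').1 hb'
    have m := hmem ⟨b, hbA⟩
    have m' := hmem ⟨b', hbA'⟩
    generalize φ ⟨b, hbA⟩ = σ at *
    generalize φ ⟨b', hbA'⟩ = σ' at *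
    by_cases h1 : σ = 1
    · exact Or.inl h1
    by_cases h1' : σ' = 1
    · exact Or.inr (Or.inl h1')
    right; right
    have i := inv_of_sq hτ5 hτ1 z e h1 (mem_zpowers hR hτR m hτ5)
    have i' := inv_of_sq hτ5 hτ1 z' e' h1' (mem_zpowers hR hτR m' hτ5)
    apply eq_one_of_comm hτ5 hτ1
    · rw [Equiv.Perm.mul_apply, z', z]
    · calc σ * σ' * τ = σ * (σ' * τ * σ'⁻¹) * σ' := by group
        _ = σ * τ⁻¹ * σ' := by rw [i']
        _ = (σ * τ * σ⁻¹)⁻¹ * σ * σ' := by group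
        _ = τ * (σ * σ') := by rw [i]; group

end Cfsg.Agent.H973.Five
end

-- part: H973/Five/Main
section
/-!
# S3568, solvable local action: `solvable_case` (helper973, for helper209)

`E80 G` is the statement of `e80`.
-/

set_option autoImplicit false
set_option linter.unusedSectionVars false

open Pointwise

namespace Cfsg.Agent.H973.Five

open Cfsg.Agent.H399 Cfsg.Agent.H209.Five

variable {G : Type*} [Group G]

/-- the statement of `e80` -/
def E80 (G : Type*) [Group G] : Prop := ∀ {A D : Subgroup G} (_ : IsCoatom A) (_ : A.normalCore = ⊥)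
    (_ : Nat.card A = 80) (_ : D ≤ A) (_ : Nat.card D = 16) (k₁ k₂ : G) (_ : orderOf k₁ = 4) (_ : orderOf k₂ = 4)
    (_ : k₁ * k₂ = k₂ * k₁) (_ : Subgroup.zpowers k₁ ⊓ Subgroup.zpowers k₂ = ⊥)
    (_ : D = Subgroup.zpowers k₁ ⊔ Subgroup.zpowers k₂) (_ : A = Subgroup.centralizer {k₁ ^ 2}) (_ : A ⊓ Nm D = D)
    (g : G) (_ : g ∈ Nm D) (_ : g * k₁ * g⁻¹ ∈ Subgroup.zpowers k₂), False

/-! ### `Ω₁(Z(S))` for the prime 2 -/

/-- `Ω₁(Z(S))` for the prime 2 -/
def OZ2 (S : Subgroup G) : Subgroup G where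
  carrier := {x | x ∈ S ∧ x ^ 2 = 1 ∧ ∀ y ∈ S, x * y = y * x}
  one_mem' := ⟨S.one_mem, one_pow 2, fun y _ => by rw [one_mul, mul_one]⟩
  mul_mem' := by
    rintro x y ⟨hx, hx3, hxc⟩ ⟨hy, hy3, hyc⟩
    refine ⟨S.mul_mem hx hy, ?_, fun z hz => ?_⟩
    · have h1 : Commute x y := hxc y hy
      rw [h1.mul_pow, hx3, hy3, one_mul]
    · rw [mul_assoc, hyc z hz, ← mul_assoc, hxc z hz, mul_assoc]
  inv_mem' := by
    rintro x ⟨hx, hx3, hxc⟩
    refine ⟨S.inv_mem hx, by rw [inv_pow, hx3, inv_one], fun y hy => ?_⟩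
    rw [inv_mul_eq_iff_eq_mul, ← mul_assoc, hxc y hy, mul_assoc, mul_inv_cancel, mul_one]

theorem mem_OZ2 {S : Subgroup G} {x : G} : x ∈ OZ2 S ↔ x ∈ S ∧ x ^ 2 = 1 ∧ ∀ y ∈ S, x * y = y * x := Iff.rfl

theorem OZ2_le (S : Subgroup G) : OZ2 S ≤ S := fun _ hx => hx.1

theorem cj_OZ2 (x : G) (S : Subgroup G) : cj x (OZ2 S) = OZ2 (cj x S) := by
  ext y
  rw [mem_cj, mem_OZ2, mem_OZ2, mem_cj]
  refine and_congr_right fun _ => and_congr ?_ ?_
  · have : (x⁻¹ * y * x) ^ 2 = x⁻¹ * y ^ 2 * x := by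
      have := conj_pow (i := 2) (a := x⁻¹) (b := y)
      simpa using this
    rw [this]
    constructor
    · intro h
      have : y ^ 2 = x * (x⁻¹ * y ^ 2 * x) * x⁻¹ := by group
      rw [this, h]
      group
    · intro h
      rw [h]
      group
  · constructor
    · intro h z hz
      rw [mem_cj] at hz
      have := h _ hz
      have h1 : y * z = x * (x⁻¹ * y * x * (x⁻¹ * z * x)) * x⁻¹ := by group
      rw [h1, this]
      group
    · intro h z hz
      have h1 := h (x * z * x⁻¹) (conj_mem_cj.2 hz)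
      have h2 : x⁻¹ * y * x * z = x⁻¹ * (y * (x * z * x⁻¹)) * x := by group
      rw [h2, h1]
      group

theorem Nm_le_Nm_OZ2 (S : Subgroup G) : Nm S ≤ Nm (OZ2 S) := by
  rw [le_Nm']
  intro x hx
  rw [cj_OZ2, cj_of_mem_Nm hx]

theorem OZ2_ne_bot [Finite G] {S : Subgroup G} (h3 : IsPGroup 2 S) (hS : S ≠ ⊥) : OZ2 S ≠ ⊥ := by
  have : Fact (Nat.Prime 2) := ⟨Nat.prime_two⟩
  have : Nontrivial S := (Subgroup.nontrivial_iff_ne_bot S).2 hS
  have h1 : Nontrivial (Subgroup.center S) := h3.center_nontrivial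
  obtain ⟨m, hm⟩ := IsPGroup.iff_card.1 (h3.to_subgroup (Subgroup.center S))
  have hm0 : m ≠ 0 := by
    rintro rfl
    rw [pow_zero] at hm
    exact absurd (Finite.one_lt_card_iff_nontrivial.2 h1) (by rw [hm]; norm_num)
  obtain ⟨x, hx⟩ := exists_prime_orderOf_dvd_card' (G := Subgroup.center S) 2 (by
    rw [hm]
    exact dvd_pow_self _ hm0)
  intro h2
  have h4 : ((x : S) : G) ∈ OZ2 S := by
    refine ⟨x.1.2, ?_, fun y hy => ?_⟩
    · have h5 : x ^ 2 = 1 := by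
        rw [← hx]
        exact pow_orderOf_eq_one x
      exact congrArg (fun z : Subgroup.center S => ((z : S) : G)) h5
    · have h5 := Subgroup.mem_center_iff.1 x.2 ⟨y, hy⟩
      exact (congrArg Subtype.val h5).symm
  rw [h2, Subgroup.mem_bot] at h4
  have h6 : x = 1 := Subtype.ext (Subtype.ext h4)
  rw [h6, orderOf_one] at hx
  norm_num at hx

theorem EA_OZ2 (S : Subgroup G) : EA (OZ2 S) (Nat.card (OZ2 S)) where
  card := rfl
  comm := fun _ hx y hy => hx.2.2 y hy.1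
  sq := fun x hx => by rw [← pow_two]; exact hx.2.1

theorem ea_cj {V : Subgroup G} {n : ℕ} (h : EA V n) (x : G) : EA (cj x V) n := by
  refine ⟨by rw [card_cj, h.card], fun y hy z hz => ?_, fun y hy => ?_⟩
  · rw [mem_cj] at hy hz
    have h1 := h.comm _ hy _ hz
    have h2 : y * z = x * (x⁻¹ * y * x * (x⁻¹ * z * x)) * x⁻¹ := by group
    rw [h2, h1]
    group
  · rw [mem_cj] at hy
    have h1 := h.sq _ hy
    have h2 : y * y = x * ((x⁻¹ * y * x) * (x⁻¹ * y * x)) * x⁻¹ := by group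
    rw [h2, h1]
    group

/-! ### coprime action -/

/-- an element of order 5 normalising a 2-group `V` and centralising a subgroup of index at most 4 centralises `V` -/
theorem centralizes [Finite G] {V : Subgroup G} {y : G} (hV : IsPGroup 2 V) (hy : y ∈ Nm V) (h5 : y ^ 5 = 1)
    (hi : (Subgroup.centralizer {y}).relIndex V ≤ 4) : ∀ v ∈ V, y * v = v * y := by
  have hp2 : Fact (Nat.Prime 2) := ⟨Nat.prime_two⟩
  have hp5 : Fact (Nat.Prime 5) := ⟨Nat.prime_five⟩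
  have hP : IsPGroup 5 (Subgroup.zpowers y) := by
    rintro ⟨z, m, rfl⟩
    refine ⟨1, Subtype.ext ?_⟩
    show (y ^ m) ^ 5 ^ 1 = 1
    rw [pow_one, ← zpow_natCast, ← zpow_mul, mul_comm, zpow_mul]
    have : y ^ ((5 : ℕ) : ℤ) = 1 := by rw [zpow_natCast]; exact h5
    rw [this, one_zpow]
  have hle : Subgroup.zpowers y ≤ Nm V := (Subgroup.zpowers_le).2 hy
  let act : MulAction (Subgroup.zpowers y) V :=
    { smul := fun a v => ⟨(a : G) * v * (a : G)⁻¹, le_Nm.1 hle a a.2 v v.2⟩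
      one_smul := fun v => Subtype.ext (by show (1 : G) * v * (1 : G)⁻¹ = v; simp)
      mul_smul := fun a b v => Subtype.ext (by
        show ((a : G) * b) * v * ((a : G) * b)⁻¹ = a * (b * v * (b : G)⁻¹) * (a : G)⁻¹
        group) }
  have h1 := hP.card_modEq_card_fixedPoints V
  have h2 : Nat.card (MulAction.fixedPoints (Subgroup.zpowers y) V) =
      Nat.card ↥(Subgroup.centralizer {y} ⊓ V) := by
    refine Nat.card_congr ⟨fun v => ⟨v.1, Subgroup.mem_inf.2 ⟨?_, v.1.2⟩⟩, fun v => ⟨⟨v.1, v.2.2⟩, ?_⟩, ?_, ?_⟩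
    · rw [Subgroup.mem_centralizer_singleton_iff]
      have h3 := congrArg Subtype.val (v.2 ⟨y, Subgroup.mem_zpowers y⟩)
      have h4 : y * (v.1 : G) * y⁻¹ = v.1 := h3
      exact (mul_inv_eq_iff_eq_mul.1 h4).symm
    · rintro ⟨z, m, rfl⟩
      apply Subtype.ext
      have h3 : (v : G) ∈ Subgroup.centralizer {y} := v.2.1
      rw [Subgroup.mem_centralizer_singleton_iff] at h3
      have h4 : Commute ((v : G)) (y ^ m) := Commute.zpow_right h3 m
      show y ^ m * (v : G) * (y ^ m)⁻¹ = v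
      rw [← h4.eq]
      group
    · intro v; rfl
    · intro v; rfl
  rw [h2] at h1
  have h3 := card_inf_mul_relIndex V (Subgroup.centralizer {y})
  obtain ⟨m, hm⟩ := IsPGroup.iff_card.1 (hV.to_le (inf_le_right : Subgroup.centralizer {y} ⊓ V ≤ V))
  obtain ⟨n, hn⟩ := IsPGroup.iff_card.1 hV
  have h4 : (Subgroup.centralizer {y}).relIndex V ∣ 2 ^ n := by
    rw [← hn]
    exact Subgroup.relIndex_dvd_card _ _
  have h50 : ¬ 5 ∣ 2 ^ m := fun h => by
    have := Nat.Prime.dvd_of_dvd_pow Nat.prime_five h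
    omega
  rw [← h3, hm] at h1
  have h6 : (Subgroup.centralizer {y}).relIndex V = 1 := by
    have h7 : (Subgroup.centralizer {y}).relIndex V ≠ 0 := Subgroup.index_ne_zero_of_finite
    have h8 : (Subgroup.centralizer {y}).relIndex V ≠ 3 := fun h => by
      rw [h] at h4
      have := Nat.Prime.dvd_of_dvd_pow Nat.prime_three h4
      omega
    unfold Nat.ModEq at h1
    generalize (Subgroup.centralizer {y}).relIndex V = k at *
    interval_cases k
    · omega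
    · rfl
    · omega
    · omega
    · omega
  rw [Subgroup.relIndex_eq_one] at h6
  intro v hv
  have := h6 hv
  rw [Subgroup.mem_centralizer_singleton_iff] at this
  exact this.symm

section

variable [Finite G] {A B : Subgroup G}

/-- the odd elements of `A ∩ B` are trivial -/
theorem two_group (h : Pr5 A B) (hA : Sol A (A ⊓ B)) (hB : Sol B (B ⊓ A)) : IsPGroup 2 (A ⊓ B : Subgroup G) := by
  have hD1 : A ⊓ B ≤ Nm (core A (A ⊓ B)) := inf_le_left.trans (le_Nm_core _ _)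
  have hD2 : B ⊓ A ≤ Nm (core B (B ⊓ A)) := inf_le_left.trans (le_Nm_core _ _)
  have odd_mem : ∀ {K C : Subgroup G}, C ≤ Nm K → (K.relIndex C = 1 ∨ K.relIndex C = 2 ∨ K.relIndex C = 4) →
      ∀ x ∈ C, Odd (orderOf x) → x ∈ K := by
    intro K C hC h4 x hx ho
    have h1 := pow_relIndex_mem hC hx
    refine mem_of_pow_mem (m := orderOf x) (n := K.relIndex C) ?_ (pow_orderOf_eq_one x) h1
    have h2 : K.relIndex C ∣ 2 ^ 2 := by
      rcases h4 with h4 | h4 | h4 <;> rw [h4] <;> norm_num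
    exact Nat.Coprime.coprime_dvd_right h2 (Nat.Coprime.pow_right 2 (Nat.coprime_two_right.2 ho))
  have m1 := odd_mem hD1 hA.four
  have m2 := odd_mem hD2 hB.four
  have h3 : Subgroup.closure {x | x ∈ A ⊓ B ∧ Odd (orderOf x)} = ⊥ := by
    refine h.U _ ?_ ?_ ?_
    · rw [Subgroup.closure_le]
      rintro x ⟨hx, -⟩
      exact hx
    · rw [Nm, Subgroup.le_normalizer_closure_iff]
      rintro a ha x ⟨hx, hx'⟩
      refine Subgroup.subset_closure ⟨core_le _ _ (le_Nm.1 (le_Nm_core A (A ⊓ B)) a ha x (m1 x hx hx')), odd_conj a x hx'⟩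
    · rw [Nm, Subgroup.le_normalizer_closure_iff]
      rintro a ha x ⟨hx, hx'⟩
      refine Subgroup.subset_closure ⟨?_, odd_conj a x hx'⟩
      have := core_le _ _ (le_Nm.1 (le_Nm_core B (B ⊓ A)) a ha x (m2 x (by rwa [inf_comm]) hx'))
      rwa [inf_comm] at this
  intro x
  obtain ⟨k, m, hm, hk⟩ := Nat.exists_eq_two_pow_mul_odd (n := orderOf x) (orderOf_pos x).ne'
  refine ⟨k, ?_⟩
  have h5 : Odd (orderOf ((x : G) ^ 2 ^ k)) := by
    have h6 : orderOf ((x : G) ^ 2 ^ k) ∣ m := by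
      rw [orderOf_dvd_iff_pow_eq_one, ← pow_mul, ← hk]
      exact congrArg Subtype.val (pow_orderOf_eq_one x)
    exact hm.of_dvd_nat h6
  have h6 : (x : G) ^ 2 ^ k ∈ Subgroup.closure {x | x ∈ A ⊓ B ∧ Odd (orderOf x)} :=
    Subgroup.subset_closure ⟨Subgroup.pow_mem _ x.2 _, h5⟩
  rw [h3, Subgroup.mem_bot] at h6
  exact Subtype.ext h6

/-- the element `g` -/
theorem exists_g (h : Pr5 A B) (h2 : IsPGroup 2 (A ⊓ B : Subgroup G)) : ∃ g, cj g A = B ∧ cj g (A ⊓ B) = A ⊓ B := by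
  have : Fact (Nat.Prime 2) := ⟨Nat.prime_two⟩
  obtain ⟨g, hg⟩ := h.conj
  have h1 : cj g (A ⊓ B) ≤ B := (cj_le_cj.2 inf_le_left).trans hg.le
  have h3 : ¬ 2 ∣ (A ⊓ B).relIndex B := by
    rw [inf_comm, h.symm.idx]
    norm_num
  have h4 : ¬ 2 ∣ (cj g (A ⊓ B)).relIndex B := by
    have h5 : (cj g (A ⊓ B)).relIndex (cj g A) = (A ⊓ B).relIndex A := relIndex_cj _ _ _
    rw [hg] at h5
    rw [h5, h.idx]
    norm_num
  obtain ⟨b, hb, hb'⟩ := exists_conj_of_sylow inf_le_right h1 h2 (isPGroup_cj g h2) h3 h4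
  refine ⟨b * g, ?_, ?_⟩
  · rw [cj_mul, hg, cj_of_mem hb]
  · rw [cj_mul, hb']

theorem relIndex_cases {D M A : Subgroup G} (h1 : D ≤ M) (h2 : M ≤ A) (h5 : D.relIndex A = 5) : M = D ∨ M = A := by
  have h := Subgroup.relIndex_mul_relIndex _ _ _ h1 h2
  rw [h5] at h
  have h3 : D.relIndex M ∣ 5 := ⟨_, h.symm⟩
  rcases (Nat.dvd_prime Nat.prime_five).1 h3 with h4 | h4
  · left
    rw [Subgroup.relIndex_eq_one] at h4
    exact le_antisymm h4 h1
  · right
    rw [h4] at h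
    have h6 : M.relIndex A = 1 := by omega
    rw [Subgroup.relIndex_eq_one] at h6
    exact le_antisymm h2 h6

theorem not_five {D : Subgroup G} (h2 : IsPGroup 2 D) : ¬ 5 ∣ Nat.card D := by
  have : Fact (Nat.Prime 2) := ⟨Nat.prime_two⟩
  obtain ⟨n, hn⟩ := IsPGroup.iff_card.1 h2
  rw [hn]
  intro h
  have := Nat.Prime.dvd_of_dvd_pow Nat.prime_five h
  omega

/-- a normal 2-subgroup of `A` lies in the core -/
theorem le_core_of_two {D A X : Subgroup G} (hD : D ≤ A) (h5 : D.relIndex A = 5) (h2 : IsPGroup 2 D) (hX : X ≤ A)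
    (hN : A ≤ Nm X) (hX2 : IsPGroup 2 X) : X ≤ core A D := by
  have : Fact (Nat.Prime 2) := ⟨Nat.prime_two⟩
  refine le_core ?_ hN
  rcases relIndex_cases (le_sup_left : D ≤ D ⊔ X) (sup_le hD hX) h5 with h | h
  · rw [← h]
    exact le_sup_right
  · exfalso
    have h3 := card_sup (hD.trans hN)
    rw [h] at h3
    have h4 := card_mul_relIndex hD
    rw [h5] at h4
    have h6 : 5 ∣ Nat.card D * Nat.card X := by
      rw [← h3, ← h4]
      exact Dvd.dvd.mul_right (Dvd.intro_left _ rfl) _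
    rcases (Nat.Prime.dvd_mul Nat.prime_five).1 h6 with h7 | h7
    · exact not_five h2 h7
    · exact not_five hX2 h7

/-- a subgroup of order divisible by 5 and `D` generate `A` -/
theorem le_sup_of_five {D A N : Subgroup G} (hD : D ≤ A) (h5 : D.relIndex A = 5) (h2 : IsPGroup 2 D) (hN : N ≤ A)
    (h : 5 ∣ Nat.card N) : A ≤ D ⊔ N := by
  rcases relIndex_cases (le_sup_left : D ≤ D ⊔ N) (sup_le hD hN) h5 with h' | h'
  · exfalso
    apply not_five h2
    refine h.trans (Subgroup.card_dvd_of_le ?_)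
    rw [← h']
    exact le_sup_right
  · exact h'.ge

/-- a subgroup of `A` of order prime to 5 is a 2-group -/
theorem isPGroup_of_not_five {D A N : Subgroup G} (hD : D ≤ A) (h5 : D.relIndex A = 5) (h2 : IsPGroup 2 D)
    (hN : N ≤ A) (h : ¬ 5 ∣ Nat.card N) : IsPGroup 2 N := by
  have hp : Fact (Nat.Prime 2) := ⟨Nat.prime_two⟩
  obtain ⟨n, hn⟩ := IsPGroup.iff_card.1 h2
  have h4 := card_mul_relIndex hD
  rw [h5, hn] at h4
  have h6 : Nat.card N ∣ 2 ^ n * 5 := by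
    rw [h4]
    exact Subgroup.card_dvd_of_le hN
  have h7 : (Nat.card N).Coprime 5 := ((Nat.Prime.coprime_iff_not_dvd Nat.prime_five).2 h).symm
  have h8 : Nat.card N ∣ 2 ^ n := h7.dvd_of_dvd_mul_right h6
  obtain ⟨m, -, hm⟩ := (Nat.dvd_prime_pow Nat.prime_two).1 h8
  exact IsPGroup.of_card hm

theorem inf_cent_le_Nm (A K : Subgroup G) (hK : A ≤ Nm K) : A ≤ Nm (A ⊓ Subgroup.centralizer (K : Set G)) := by
  rw [le_Nm]
  rintro a ha x ⟨hx, hxc⟩
  refine Subgroup.mem_inf.2 ⟨A.mul_mem (A.mul_mem ha hx) (A.inv_mem ha), ?_⟩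
  have hxc : x ∈ Subgroup.centralizer (K : Set G) := hxc
  rw [Subgroup.mem_centralizer_iff]
  rw [Subgroup.mem_centralizer_iff] at hxc
  intro k hk
  have h1 := hxc (a⁻¹ * k * a) (by
    have := le_Nm.1 hK a⁻¹ (A.inv_mem ha) k hk
    rwa [inv_inv] at this)
  calc k * (a * x * a⁻¹) = a * ((a⁻¹ * k * a) * x) * a⁻¹ := by group
    _ = a * (x * (a⁻¹ * k * a)) * a⁻¹ := by rw [h1]
    _ = a * x * a⁻¹ * k := by group

/-! ### case (b) -/

theorem case_b (h : Pr5 A B) (hA : Sol A (A ⊓ B)) (h2 : IsPGroup 2 (A ⊓ B : Subgroup G))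
    (hD0 : A ⊓ B ≠ ⊥) {g : G} (hg : cj g A = B) (hgD : cj g (A ⊓ B) = A ⊓ B)
    (hN : ¬ 5 ∣ Nat.card ↥(A ⊓ Subgroup.centralizer (core A (A ⊓ B) : Set G))) : False := by
  have hp2 : Fact (Nat.Prime 2) := ⟨Nat.prime_two⟩
  have hp5 : Fact (Nat.Prime 5) := ⟨Nat.prime_five⟩
  set D := A ⊓ B with hDdef
  have hDA : D ≤ A := inf_le_left
  set K := core A D with hKdef
  have hKD : K ≤ D := core_le A D
  have hAK : A ≤ Nm K := le_Nm_core A D
  have h5 := hA.idx
  -- transport by `g`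
  have hU : ∀ X : Subgroup G, X ≤ D → A ≤ Nm X → cj g X = X → X = ⊥ := by
    intro X hX hAX hgX
    refine h.U X hX hAX ?_
    rw [← hg]
    have := (cj_le_cj (x := g)).2 hAX
    rwa [cj_Nm, hgX] at this
  have hNK : A ⊓ Subgroup.centralizer (K : Set G) ≤ K :=
    le_core_of_two hDA h5 h2 inf_le_left (inf_cent_le_Nm A K hAK)
      (isPGroup_of_not_five hDA h5 h2 inf_le_left hN)
  -- `Z ≤ V`
  set V := OZ2 K with hVdef
  have hVK : V ≤ K := OZ2_le K
  have hV2 : IsPGroup 2 V := h2.to_le (hVK.trans hKD)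
  have hAV : A ≤ Nm V := hAK.trans (Nm_le_Nm_OZ2 K)
  have hZV : OZ2 D ≤ V := by
    intro z hz
    have hzK : z ∈ K := hNK (Subgroup.mem_inf.2 ⟨hDA hz.1, by
      rw [Subgroup.mem_centralizer_iff]
      intro k hk
      exact (hz.2.2 k (hKD hk)).symm⟩)
    exact ⟨hzK, hz.2.1, fun y hy => hz.2.2 y (hKD hy)⟩
  have hZ0 : OZ2 D ≠ ⊥ := OZ2_ne_bot h2 hD0
  have hgZ : cj g (OZ2 D) = OZ2 D := by rw [cj_OZ2, hgD]
  -- the centraliser of `V`
  have hCV : ¬ 5 ∣ Nat.card ↥(A ⊓ Subgroup.centralizer (V : Set G)) := by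
    intro hd
    apply hZ0
    refine hU _ (OZ2_le D) ?_ hgZ
    refine (le_sup_of_five hDA h5 h2 inf_le_left hd).trans (sup_le ((self_le_Nm D).trans (Nm_le_Nm_OZ2 D)) ?_)
    rw [le_Nm]
    rintro x ⟨-, hx⟩ z hz
    have hx : x ∈ Subgroup.centralizer (V : Set G) := hx
    rw [Subgroup.mem_centralizer_iff] at hx
    have := hx z (hZV hz)
    rw [← this]
    simpa using hz
  -- elementary abelian subgroups of maximal order
  obtain ⟨⟨E₀, hE₀D, n, hE₀⟩, hmax⟩ : ∃ E : {E : Subgroup G // E ≤ D ∧ ∃ n, EA E n},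
      ∀ E' : {E : Subgroup G // E ≤ D ∧ ∃ n, EA E n}, Nat.card (E' : Subgroup G) ≤ Nat.card (E : Subgroup G) := by
    have : Nonempty {E : Subgroup G // E ≤ D ∧ ∃ n, EA E n} := ⟨⟨OZ2 D, OZ2_le D, _, EA_OZ2 D⟩⟩
    obtain ⟨E, hE⟩ := Finite.exists_max
      (fun E : {E : Subgroup G // E ≤ D ∧ ∃ n, EA E n} => Nat.card (E : Subgroup G))
    exact ⟨E, hE⟩
  have hmax' : ∀ E : Subgroup G, E ≤ D → ∀ m, EA E m → m ≤ n := by
    intro E hE m hm
    have := hmax ⟨E, hE, m, hm⟩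
    rw [← hm.card, ← hE₀.card]
    exact this
  have hn1 : 1 < n := by
    have h6 := hmax' _ (OZ2_le D) _ (EA_OZ2 D)
    have h7 : 1 < Nat.card (OZ2 D) := by
      rw [Finite.one_lt_card_iff_nontrivial]
      exact (Subgroup.nontrivial_iff_ne_bot _).2 hZ0
    omega
  obtain ⟨E, hED, hE, hEK⟩ : ∃ E : Subgroup G, E ≤ D ∧ EA E n ∧ ¬ E ≤ K := by
    by_contra hcon
    push Not at hcon
    set J : Subgroup G := sSup {E | E ≤ D ∧ EA E n} with hJ
    have hJK : J ≤ K := sSup_le fun E hE => hcon E hE.1 hE.2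
    have hperm : ∀ x : G, (∀ E : Subgroup G, E ≤ D → EA E n → cj x E ≤ D) → cj x J ≤ J := by
      intro x hx
      rw [cj_le_iff]
      refine sSup_le fun E hE => ?_
      rw [← cj_le_iff]
      exact le_sSup ⟨hx E hE.1 hE.2, ea_cj hE.2 x⟩
    have hAJ : A ≤ Nm J := by
      have h6 : ∀ a ∈ A, cj a J ≤ J := by
        intro a ha
        apply hperm
        intro E hE hE'
        have h7 : cj a E ≤ cj a K := cj_le_cj.2 (hcon E hE hE')
        rw [cj_of_mem_Nm (hAK ha)] at h7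
        exact h7.trans hKD
      rw [le_Nm]
      intro a ha x hx
      exact h6 a ha (conj_mem_cj.2 hx)
    have hgJ : cj g J = J := by
      have h6 : cj g J ≤ J := by
        apply hperm
        intro E hE _
        have h7 : cj g E ≤ cj g D := cj_le_cj.2 hE
        rwa [hgD] at h7
      apply Subgroup.eq_of_le_of_card_ge h6
      rw [card_cj]
    have hJ0 := hU J (hJK.trans hKD) hAJ hgJ
    have h6 : E₀ ≤ J := le_sSup ⟨hE₀D, hE₀⟩
    rw [hJ0, le_bot_iff] at h6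
    have h7 := hE₀.card
    rw [h6, Subgroup.card_bot] at h7
    omega
  -- `|E : E ∩ K| ≤ 2`
  obtain ⟨b, hbE, hbK⟩ := SetLike.not_le_iff_exists.1 hEK
  have hbD := hED hbE
  have hKE : K.relIndex E = 2 := by
    have h6 : ∃ a : E, ∀ c : E, Xor (c * a ∈ K.subgroupOf E) (c ∈ K.subgroupOf E) := by
      refine ⟨⟨b, hbE⟩, fun c => ?_⟩
      simp only [Subgroup.mem_subgroupOf, Subgroup.coe_mul]
      by_cases hc : (c : G) ∈ K
      · right
        refine ⟨hc, fun h7 => hbK ?_⟩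
        have := K.mul_mem (K.inv_mem hc) h7
        rwa [inv_mul_cancel_left] at this
      · left
        refine ⟨?_, hc⟩
        have h7 := hA.inv c (hED c.2) b hbD (by rw [hE.sq _ c.2]; exact K.one_mem)
          (by rw [hE.sq b hbE]; exact K.one_mem)
        rcases h7 with h7 | h7 | h7
        · exact absurd h7 hc
        · exact absurd h7 hbK
        · exact h7
    exact Subgroup.index_eq_two_iff.2 h6
  -- `|V : E ∩ V| ≤ 2`
  have hEV : Nat.card V ≤ 2 * Nat.card ↥(E ⊓ V) := by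
    have hle : E ⊓ K ≤ Nm V := (inf_le_right.trans (hKD.trans hDA)).trans hAV
    have h6 := card_sup hle
    have h7 : (E ⊓ K) ⊓ V = E ⊓ V := by
      rw [inf_assoc, inf_of_le_right hVK]
    rw [h7] at h6
    have hcomm : ∀ x ∈ E ⊓ K, ∀ v ∈ V, v * x = x * v := fun x hx v hv => hv.2.2 x hx.2
    have h8 : EA ((E ⊓ K) ⊔ V) (Nat.card ↥((E ⊓ K) ⊔ V)) := by
      refine ⟨rfl, ?_, ?_⟩
      · intro x hx y hy
        obtain ⟨e, he, v, hv, rfl⟩ := (mul_mem_sup_iff hle).1 hx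
        obtain ⟨e', he', v', hv', rfl⟩ := (mul_mem_sup_iff hle).1 hy
        have c1 := hE.comm e he.1 e' he'.1
        have c2 := hcomm e he v' hv'
        have c3 := hcomm e' he' v hv
        have c4 := (EA_OZ2 K).comm v hv v' hv'
        calc e * v * (e' * v') = e * (v * e') * v' := by group
          _ = e * e' * (v * v') := by rw [c3]; group
          _ = e' * (e * v') * v := by rw [c1, c4]; group
          _ = e' * v' * (e * v) := by rw [← c2]; group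
      · intro x hx
        obtain ⟨e, he, v, hv, rfl⟩ := (mul_mem_sup_iff hle).1 hx
        have c1 := hcomm e he v hv
        calc e * v * (e * v) = e * (v * e) * v := by group
          _ = (e * e) * (v * v) := by rw [c1]; group
          _ = 1 := by rw [hE.sq e he.1, (EA_OZ2 K).sq v hv, one_mul]
    have h9 := hmax' _ (sup_le (inf_le_left.trans hED) (hVK.trans hKD)) _ h8
    have h10 := card_inf_mul_relIndex E K
    rw [hKE, hE.card, inf_comm] at h10
    have h11 : 0 < Nat.card ↥(E ⊓ K) := Nat.card_pos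
    have h12 : Nat.card ↥(E ⊓ K) * Nat.card V ≤ Nat.card ↥(E ⊓ K) * (2 * Nat.card ↥(E ⊓ V)) := by
      rw [← h6]
      calc Nat.card ↥((E ⊓ K) ⊔ V) * Nat.card ↥(E ⊓ V) ≤ n * Nat.card ↥(E ⊓ V) := Nat.mul_le_mul_right _ h9
        _ = Nat.card ↥(E ⊓ K) * (2 * Nat.card ↥(E ⊓ V)) := by rw [← h10]; ring
    exact Nat.le_of_mul_le_mul_left h12 h11
  have hVb : (Subgroup.centralizer {b}).relIndex V ≤ 2 := by
    have h6 := card_inf_mul_relIndex V (Subgroup.centralizer {b})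
    have h7 : E ⊓ V ≤ Subgroup.centralizer {b} ⊓ V := by
      rintro x ⟨hx, hxV⟩
      refine Subgroup.mem_inf.2 ⟨?_, hxV⟩
      rw [Subgroup.mem_centralizer_singleton_iff]
      exact hE.comm x hx b hbE
    have h8 := Nat.card_mono (Set.toFinite _) h7
    have h9 : Nat.card ↥(E ⊓ V) ≤ Nat.card ↥(Subgroup.centralizer {b} ⊓ V) := Subgroup.card_le_of_le h7
    have h10 : 0 < Nat.card ↥(Subgroup.centralizer {b} ⊓ V) := Nat.card_pos
    have h11 : Nat.card ↥(Subgroup.centralizer {b} ⊓ V) * (Subgroup.centralizer {b}).relIndex V ≤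
        Nat.card ↥(Subgroup.centralizer {b} ⊓ V) * 2 := by
      rw [h6]
      calc Nat.card V ≤ 2 * Nat.card ↥(E ⊓ V) := hEV
        _ ≤ 2 * Nat.card ↥(Subgroup.centralizer {b} ⊓ V) := Nat.mul_le_mul_left _ h9
        _ = _ := mul_comm _ _
    exact Nat.le_of_mul_le_mul_left h11 h10
  -- an element of order 5
  have hcardA := card_mul_relIndex hDA
  rw [h5] at hcardA
  obtain ⟨c, hc⟩ := exists_prime_orderOf_dvd_card' (G := A) 5 (by rw [← hcardA]; exact Dvd.intro_left _ rfl)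
  have hc5 : (c : G) ^ 5 = 1 := by
    have := pow_orderOf_eq_one c
    rw [hc] at this
    exact congrArg Subtype.val this
  have hcK : (c : G) ∉ K := by
    intro hcK
    have h6 : orderOf (⟨c, hKD hcK⟩ : D) = 5 := by
      rw [← hc, Subgroup.orderOf_mk, Subgroup.orderOf_coe]
    apply not_five h2
    rw [← h6]
    exact orderOf_dvd_natCard _
  obtain ⟨w, hw⟩ : ∃ w, w = b * c * b⁻¹ * (c : G)⁻¹ := ⟨_, rfl⟩
  have hbA := hDA hbD
  have hwA : w ∈ A := by
    rw [hw]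
    exact A.mul_mem (A.mul_mem (A.mul_mem hbA c.2) (A.inv_mem hbA)) (A.inv_mem c.2)
  have hwK : w ∉ K := by
    rw [hw]
    exact hA.nc c c.2 hcK (by rw [hc5]; exact K.one_mem) b hbD hbK
  have hw5 : w ^ 5 ∈ K := by
    rw [hw]
    exact hA.five c c.2 (by rw [hc5]; exact K.one_mem) b hbA
  obtain ⟨m, hm⟩ := IsPGroup.iff_card.1 (h2.to_le hKD)
  have hy5 : (w ^ 2 ^ m) ^ 5 = 1 := by
    rw [← pow_mul, mul_comm, pow_mul, ← hm]
    have : (⟨w ^ 5, hw5⟩ : K) ^ Nat.card K = 1 := pow_card_eq_one'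
    exact congrArg Subtype.val this
  have hyK : w ^ 2 ^ m ∉ K := by
    intro h6
    apply hwK
    obtain ⟨u, v, huv⟩ : ∃ u v : ℤ, u * 5 + v * (2 ^ m : ℕ) = 1 := by
      have hcop : IsCoprime (5 : ℤ) ((2 ^ m : ℕ) : ℤ) := by
        have h8 : IsCoprime ((5 : ℕ) : ℤ) ((2 ^ m : ℕ) : ℤ) :=
          Nat.isCoprime_iff_coprime.2 (Nat.Coprime.pow_right m (by norm_num))
        exact h8
      obtain ⟨u, v, huv⟩ := hcop
      exact ⟨u, v, huv⟩
    have h7 : w = (w ^ 5) ^ u * (w ^ 2 ^ m) ^ v := by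
      rw [← zpow_natCast, ← zpow_natCast, ← zpow_mul, ← zpow_mul, ← zpow_add]
      have : ((5 : ℕ) : ℤ) * u + ((2 ^ m : ℕ) : ℤ) * v = 1 := by
        rw [mul_comm, mul_comm ((2 ^ m : ℕ) : ℤ)]
        exact_mod_cast huv
      rw [this, zpow_one]
    rw [h7]
    exact K.mul_mem (K.zpow_mem hw5 _) (K.zpow_mem h6 _)
  set y := w ^ 2 ^ m with hy
  have hyA : y ∈ A := A.pow_mem hwA _
  have hy1 : y ≠ 1 := fun h6 => hyK (by rw [h6]; exact K.one_mem)
  have hyo : orderOf y = 5 := orderOf_eq_prime hy5 hy1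
  -- the centraliser of `y` in `V`
  have hVb' : (Subgroup.centralizer {(c : G) * b * (c : G)⁻¹}).relIndex V ≤ 2 := by
    have h6 : Subgroup.centralizer {(c : G) * b * (c : G)⁻¹} = cj (c : G) (Subgroup.centralizer {b}) := by
      ext x
      rw [mem_cj, Subgroup.mem_centralizer_singleton_iff, Subgroup.mem_centralizer_singleton_iff]
      constructor
      · intro h7
        calc (c : G)⁻¹ * x * c * b = (c : G)⁻¹ * (x * (c * b * (c : G)⁻¹)) * c := by group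
          _ = b * ((c : G)⁻¹ * x * c) := by rw [h7]; group
      · intro h7
        calc x * ((c : G) * b * (c : G)⁻¹) = c * ((c : G)⁻¹ * x * c * b) * (c : G)⁻¹ := by group
          _ = c * b * (c : G)⁻¹ * x := by rw [h7]; group
    have h7 : cj (c : G) V = V := cj_of_mem_Nm (hAV c.2)
    rw [h6, ← h7, relIndex_cj]
    exact hVb
  have hVy : (Subgroup.centralizer {y}).relIndex V ≤ 4 := by
    have h6 : Subgroup.centralizer {b} ⊓ Subgroup.centralizer {(c : G) * b * (c : G)⁻¹} ≤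
        Subgroup.centralizer {y} := by
      rintro x ⟨hx1, hx2⟩
      have hx1 : x ∈ Subgroup.centralizer {b} := hx1
      have hx2 : x ∈ Subgroup.centralizer {(c : G) * b * (c : G)⁻¹} := hx2
      rw [Subgroup.mem_centralizer_singleton_iff] at hx1 hx2 ⊢
      have c1 : Commute x b := hx1
      have c2 : Commute x (c * b * (c : G)⁻¹) := hx2
      have c3 : Commute x (b * (c * b * (c : G)⁻¹)⁻¹) := c1.mul_right c2.inv_right
      have e : b * ((c : G) * b * (c : G)⁻¹)⁻¹ = w := by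
        rw [hw]; group
      rw [e] at c3
      exact (c3.pow_right _).eq
    have h7 := Subgroup.relIndex_inf_le (H := Subgroup.centralizer {b})
      (K := Subgroup.centralizer {(c : G) * b * (c : G)⁻¹}) (L := V)
    have h8 : (Subgroup.centralizer {y}).relIndex V ≤
        (Subgroup.centralizer {b} ⊓ Subgroup.centralizer {(c : G) * b * (c : G)⁻¹}).relIndex V :=
      Subgroup.relIndex_le_of_le_left h6 Subgroup.index_ne_zero_of_finite
    calc (Subgroup.centralizer {y}).relIndex V ≤ _ := h8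
      _ ≤ _ := h7
      _ ≤ 2 * 2 := Nat.mul_le_mul hVb hVb'
  have hcent := centralizes hV2 (hAV hyA) hy5 hVy
  apply hCV
  have hyN : y ∈ A ⊓ Subgroup.centralizer (V : Set G) := by
    refine Subgroup.mem_inf.2 ⟨hyA, ?_⟩
    rw [Subgroup.mem_centralizer_iff]
    intro v hv
    exact (hcent v hv).symm
  have h6 : orderOf (⟨y, hyN⟩ : ↥(A ⊓ Subgroup.centralizer (V : Set G))) = 5 := by
    rw [Subgroup.orderOf_mk, hyo]
  have h7 := orderOf_dvd_natCard (⟨y, hyN⟩ : ↥(A ⊓ Subgroup.centralizer (V : Set G)))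
  rwa [h6] at h7

/-! ### case (a) -/

omit [Finite G] in
theorem num {n r : ℕ} (hn : n ≤ 2) (hr : r = 1 ∨ r = 2 ∨ r = 4) (h : ¬ (2 ^ n = 4 ∧ r = 4)) :
    5 * (2 ^ n * r) = 5 ∨ 5 * (2 ^ n * r) = 10 ∨ 5 * (2 ^ n * r) = 20 ∨ 5 * (2 ^ n * r) = 40 := by
  interval_cases n <;> rcases hr with rfl | rfl | rfl <;> simp at h ⊢

theorem inf_core_eq_bot (h : Pr5 A B) (hA : Sol A (A ⊓ B)) (hB : Sol B (B ⊓ A))
    (h2 : IsPGroup 2 (A ⊓ B : Subgroup G)) {g : G} (hg : cj g A = B) (hgD : cj g (A ⊓ B) = A ⊓ B)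
    (hN : 5 ∣ Nat.card ↥(A ⊓ Subgroup.centralizer (core A (A ⊓ B) : Set G))) :
    core A (A ⊓ B) ⊓ core B (B ⊓ A) = ⊥ := by
  have hgK : cj g (core A (A ⊓ B)) = core B (B ⊓ A) := by
    rw [cj_core, hg, hgD, inf_comm B A]
  have hNB : 5 ∣ Nat.card ↥(B ⊓ Subgroup.centralizer (core B (B ⊓ A) : Set G)) := by
    have h6 : cj g (A ⊓ Subgroup.centralizer (core A (A ⊓ B) : Set G)) =
        B ⊓ Subgroup.centralizer (core B (B ⊓ A) : Set G) := by
      rw [cj_inf, hg, ← hgK]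
      congr 1
      ext x
      rw [mem_cj, Subgroup.mem_centralizer_iff, Subgroup.mem_centralizer_iff]
      constructor
      · intro h7 k hk
        have hk' : k ∈ cj g (core A (A ⊓ B)) := hk
        rw [mem_cj] at hk'
        have h8 := h7 _ hk'
        calc k * x = g * ((g⁻¹ * k * g) * (g⁻¹ * x * g)) * g⁻¹ := by group
          _ = x * k := by rw [h8]; group
      · intro h7 k hk
        have hk' : g * k * g⁻¹ ∈ cj g (core A (A ⊓ B)) := conj_mem_cj.2 hk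
        have h8 := h7 _ hk'
        calc k * (g⁻¹ * x * g) = g⁻¹ * ((g * k * g⁻¹) * x) * g := by group
          _ = g⁻¹ * x * g * k := by rw [h8]; group
    rw [← h6, card_cj]
    exact hN
  have key : ∀ {A D K K' : Subgroup G}, A ≤ D ⊔ (A ⊓ Subgroup.centralizer (K : Set G)) → D ≤ Nm (K ⊓ K') →
      A ≤ Nm (K ⊓ K') := by
    intro A D K K' h6 h7
    refine h6.trans (sup_le h7 ?_)
    rw [le_Nm]
    rintro x ⟨-, hx⟩ z hz
    have hx : x ∈ Subgroup.centralizer (K : Set G) := hx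
    rw [Subgroup.mem_centralizer_iff] at hx
    have := hx z hz.1
    rw [← this]
    simpa using hz
  have hD1 : A ⊓ B ≤ Nm (core A (A ⊓ B)) := inf_le_left.trans (le_Nm_core _ _)
  have hD2 : A ⊓ B ≤ Nm (core B (B ⊓ A)) := inf_le_right.trans (le_Nm_core _ _)
  have h2' : IsPGroup 2 (B ⊓ A : Subgroup G) := by rwa [inf_comm]
  refine h.U _ (inf_le_left.trans (core_le _ _)) ?_ ?_
  · exact key (le_sup_of_five inf_le_left hA.idx h2 inf_le_left hN) (inf_le_Nm hD1 hD2)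
  · rw [inf_comm (core A (A ⊓ B))]
    refine key (le_sup_of_five inf_le_left hB.idx h2' inf_le_left hNB) ?_
    rw [inf_comm B A] at hD2 ⊢
    exact inf_le_Nm hD2 hD1

theorem case_a (h : Pr5 A B) (hA : Sol A (A ⊓ B)) (hB : Sol B (B ⊓ A)) (h80 : E80 G)
    (h2 : IsPGroup 2 (A ⊓ B : Subgroup G)) {g : G} (hg : cj g A = B) (hgD : cj g (A ⊓ B) = A ⊓ B)
    (hN : 5 ∣ Nat.card ↥(A ⊓ Subgroup.centralizer (core A (A ⊓ B) : Set G))) :
    Nat.card A = 5 ∨ Nat.card A = 10 ∨ Nat.card A = 20 ∨ Nat.card A = 40 := by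
  have hp2 : Fact (Nat.Prime 2) := ⟨Nat.prime_two⟩
  have hbot := inf_core_eq_bot h hA hB h2 hg hgD hN
  have hgK : cj g (core A (A ⊓ B)) = core B (B ⊓ A) := by
    rw [cj_core, hg, hgD, inf_comm B A]
  have hBA : B ⊓ A = A ⊓ B := inf_comm _ _
  have hinv := hB.inv
  have hfour := hB.four
  set K₁ := core A (A ⊓ B) with hK₁
  set K₂ := core B (B ⊓ A) with hK₂
  rw [hBA] at hinv hfour
  have hK₁D : K₁ ≤ A ⊓ B := core_le _ _
  have hK₂D : K₂ ≤ A ⊓ B := (core_le B (B ⊓ A)).trans hBA.le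
  have hD1 : A ⊓ B ≤ Nm K₁ := inf_le_left.trans (le_Nm_core _ _)
  have hD2 : A ⊓ B ≤ Nm K₂ := inf_le_right.trans (le_Nm_core _ _)
  have hcA : Nat.card A = 5 * Nat.card ↥(A ⊓ B) := h.card_A
  have hcD := card_mul_relIndex hK₁D
  obtain ⟨n, hn⟩ := IsPGroup.iff_card.1 (h2.to_le hK₁D)
  -- `|K₁| ≤ 4`
  have hK4 : Nat.card K₁ ≤ 4 := by
    have h6 := card_inf_mul_relIndex K₁ K₂
    rw [inf_comm, hbot, Subgroup.card_bot, one_mul] at h6
    rw [← h6]
    have h7 : K₂.relIndex K₁ ≤ K₂.relIndex (A ⊓ B) :=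
      Subgroup.relIndex_le_of_le_right hK₁D Subgroup.index_ne_zero_of_finite
    rcases hfour with h8 | h8 | h8 <;> rw [h8] at h7 <;> omega
  have hn2 : n ≤ 2 := by
    by_contra hcon
    have : 2 ^ 3 ≤ 2 ^ n := Nat.pow_le_pow_right (by norm_num) (by omega)
    omega
  by_cases hfull : Nat.card K₁ = 4 ∧ K₁.relIndex (A ⊓ B) = 4
  · exfalso
    obtain ⟨hc4, hr4⟩ := hfull
    rw [hc4, hr4] at hcD
    have hcD : Nat.card ↥(A ⊓ B) = 16 := by omega
    -- an element of order 4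
    obtain ⟨k₁, hk₁, hk₁2⟩ : ∃ k ∈ K₁, k * k ≠ 1 := by
      by_contra hcon
      push Not at hcon
      have h6 : Nat.card K₁ ≤ 2 := by
        by_contra hlt
        have h7 : ∃ x : K₁, x ≠ 1 := by
          have : Nontrivial K₁ := Finite.one_lt_card_iff_nontrivial.1 (by omega)
          exact exists_ne 1
        obtain ⟨x, hx⟩ := h7
        have h8 : ∀ z : K₁, z = 1 ∨ z = x := by
          intro z
          by_cases hz : z = 1
          · exact Or.inl hz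
          right
          have hxK : (x : G) ∉ K₂ := fun h9 => hx (Subtype.ext (by
            have : (x : G) ∈ K₁ ⊓ K₂ := ⟨x.2, h9⟩
            rwa [hbot, Subgroup.mem_bot] at this))
          have hzK : (z : G) ∉ K₂ := fun h9 => hz (Subtype.ext (by
            have : (z : G) ∈ K₁ ⊓ K₂ := ⟨z.2, h9⟩
            rwa [hbot, Subgroup.mem_bot] at this))
          have h9 := hinv x (hK₁D x.2) z (hK₁D z.2) (by rw [hcon x x.2]; exact K₂.one_mem)
            (by rw [hcon z z.2]; exact K₂.one_mem)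
          rcases h9 with h9 | h9 | h9
          · exact absurd h9 hxK
          · exact absurd h9 hzK
          · have h10 : (x : G) * z ∈ K₁ ⊓ K₂ := ⟨K₁.mul_mem x.2 z.2, h9⟩
            rw [hbot, Subgroup.mem_bot] at h10
            apply Subtype.ext
            have h11 := hcon x x.2
            exact mul_left_cancel (h10.trans h11.symm)
        have h9 : Nat.card K₁ ≤ Nat.card (Fin 2) := by
          classical
          refine Nat.card_le_card_of_injective (fun z : K₁ => if z = 1 then (0 : Fin 2) else 1) ?_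
          intro z z' hzz
          simp only at hzz
          rcases h8 z with h9 | h9 <;> rcases h8 z' with h10 | h10 <;> simp_all
        rw [Nat.card_fin] at h9
        exact hlt h9
      omega
    have hk₁4 : k₁ ^ 4 = 1 := by
      have : (⟨k₁, hk₁⟩ : K₁) ^ Nat.card K₁ = 1 := pow_card_eq_one'
      rw [hc4] at this
      exact congrArg Subtype.val this
    have ho₁ : orderOf k₁ = 4 := by
      have := orderOf_eq_prime_pow (p := 2) (n := 1) (x := k₁) (by rw [pow_one, pow_two]; exact hk₁2) hk₁4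
      exact this
    have ho₂ : orderOf (g * k₁ * g⁻¹) = 4 := by
      rw [← ho₁, ← MulAut.conj_apply]
      exact orderOf_injective (MulAut.conj g).toMonoidHom (MulAut.conj g).injective k₁
    have hk₂ : g * k₁ * g⁻¹ ∈ K₂ := by
      rw [← hgK]
      exact conj_mem_cj.2 hk₁
    have hcK₂ : Nat.card K₂ = 4 := by rw [← hgK, card_cj, hc4]
    have hz₁ : Subgroup.zpowers k₁ = K₁ := by
      apply Subgroup.eq_of_le_of_card_ge ((Subgroup.zpowers_le).2 hk₁)
      rw [Nat.card_zpowers, ho₁, hc4]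
    have hz₂ : Subgroup.zpowers (g * k₁ * g⁻¹) = K₂ := by
      apply Subgroup.eq_of_le_of_card_ge ((Subgroup.zpowers_le).2 hk₂)
      rw [Nat.card_zpowers, ho₂, hcK₂]
    have hcomm : k₁ * (g * k₁ * g⁻¹) = (g * k₁ * g⁻¹) * k₁ := by
      set k₂ := g * k₁ * g⁻¹
      have h6 : k₁ * k₂ * k₁⁻¹ * k₂⁻¹ ∈ K₁ ⊓ K₂ := by
        constructor
        · have h7 := le_Nm.1 hD1 k₂ (hK₂D hk₂) k₁⁻¹ (K₁.inv_mem hk₁)
          have h8 := K₁.mul_mem hk₁ h7
          have e : k₁ * (k₂ * k₁⁻¹ * k₂⁻¹) = k₁ * k₂ * k₁⁻¹ * k₂⁻¹ := by group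
          rw [← e]
          exact h8
        · exact K₂.mul_mem (le_Nm.1 hD2 k₁ (hK₁D hk₁) k₂ hk₂) (K₂.inv_mem hk₂)
      rw [hbot, Subgroup.mem_bot] at h6
      calc k₁ * k₂ = (k₁ * k₂ * k₁⁻¹ * k₂⁻¹) * (k₂ * k₁) := by group
        _ = k₂ * k₁ := by rw [h6, one_mul]
    have hsup : A ⊓ B = K₁ ⊔ K₂ := by
      symm
      apply Subgroup.eq_of_le_of_card_ge (sup_le hK₁D hK₂D)
      have h6 := card_sup (hK₁D.trans hD2)
      rw [hbot, Subgroup.card_bot, mul_one, hc4, hcK₂] at h6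
      rw [hcD, h6]
    -- `A = C(k₁²)`
    have hk₁z : ∀ a ∈ A, a * k₁ ^ 2 * a⁻¹ = k₁ ^ 2 := by
      intro a ha
      have h6 := le_Nm.1 (le_Nm_core A (A ⊓ B)) a ha k₁ hk₁
      have h7 : a * k₁ * a⁻¹ ∈ Subgroup.zpowers k₁ := by rw [hz₁]; exact h6
      obtain ⟨j, hj⟩ := h7
      have hj : k₁ ^ j = a * k₁ * a⁻¹ := hj
      have h8 : a * k₁ ^ 2 * a⁻¹ = (k₁ ^ 2) ^ j := by
        rw [← conj_pow, ← hj, ← zpow_natCast, ← zpow_mul, ← zpow_natCast, ← zpow_mul, mul_comm]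
      rcases Int.emod_two_eq_zero_or_one j with h9 | h9
      · exfalso
        have h10 : (k₁ ^ 2) ^ j = 1 := by
          rw [← Int.mul_ediv_add_emod j 2, h9, add_zero, zpow_mul]
          have : (k₁ ^ 2) ^ (2 : ℤ) = 1 := by
            have : (k₁ ^ 2) ^ (2 : ℕ) = 1 := by rw [← pow_mul]; exact hk₁4
            exact_mod_cast this
          rw [this, one_zpow]
        rw [h10] at h8
        apply hk₁2
        rw [← pow_two]
        calc k₁ ^ 2 = a⁻¹ * (a * k₁ ^ 2 * a⁻¹) * a := by group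
          _ = 1 := by rw [h8]; group
      · rw [h8]
        conv_lhs => rw [← Int.mul_ediv_add_emod j 2]
        rw [h9, zpow_add, zpow_mul, zpow_one]
        have : (k₁ ^ 2) ^ (2 : ℤ) = 1 := by
          have : (k₁ ^ 2) ^ (2 : ℕ) = 1 := by rw [← pow_mul]; exact hk₁4
          exact_mod_cast this
        rw [this, one_zpow, one_mul]
    have hAC : A ≤ Subgroup.centralizer {k₁ ^ 2} := by
      intro a ha
      rw [Subgroup.mem_centralizer_singleton_iff]
      have := hk₁z a ha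
      exact mul_inv_eq_iff_eq_mul.1 this
    have hA' : A = Subgroup.centralizer {k₁ ^ 2} := by
      refine le_antisymm hAC ?_
      have hzA : Subgroup.zpowers (k₁ ^ 2) ≤ A := (Subgroup.zpowers_le).2 (A.pow_mem (hK₁D hk₁).1 2)
      have hz0 : Subgroup.zpowers (k₁ ^ 2) ≠ ⊥ := by
        rw [Ne, Subgroup.zpowers_eq_bot, pow_two]
        exact hk₁2
      have hCN : Subgroup.centralizer {k₁ ^ 2} ≤ Nm (Subgroup.zpowers (k₁ ^ 2)) := by
        rw [le_Nm]
        rintro x hx _ ⟨j, rfl⟩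
        rw [Subgroup.mem_centralizer_singleton_iff] at hx
        have h6 : Commute x ((k₁ ^ 2) ^ j) := Commute.zpow_right hx j
        refine ⟨j, ?_⟩
        show (k₁ ^ 2) ^ j = x * (k₁ ^ 2) ^ j * x⁻¹
        rw [h6.eq]
        group
      have h6 := h.Nm_eq hzA hz0 (hAC.trans hCN)
      exact hCN.trans h6.le
    have hND : A ⊓ Nm (A ⊓ B) = A ⊓ B := by
      rcases relIndex_cases (le_inf inf_le_left (self_le_Nm _) : A ⊓ B ≤ A ⊓ Nm (A ⊓ B)) inf_le_left h.idx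
        with h6 | h6
      · exact h6
      · exfalso
        have h7 : A ≤ Nm (A ⊓ B) := h6.ge.trans inf_le_right
        have h8 := Subgroup.card_le_of_le (le_core (le_refl (A ⊓ B)) h7)
        rw [hcD, ← hK₁, hc4] at h8
        omega
    have hk₁k₂ : Subgroup.zpowers k₁ ⊓ Subgroup.zpowers (g * k₁ * g⁻¹) = ⊥ := by rw [hz₁, hz₂, hbot]
    refine h80 h.max h.normalCore (by rw [hcA, hcD]) inf_le_left hcD k₁ (g * k₁ * g⁻¹) ho₁ ho₂ hcomm hk₁k₂
      (by rw [hz₁, hz₂, ← hsup]) hA' hND g (mem_Nm.2 hgD) (Subgroup.mem_zpowers _)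
  · rw [hn] at hcD hfull
    rw [hcA, ← hcD]
    exact num hn2 hA.four hfull

end

/-- **the solvable case** -/
theorem solvable_case_of [Finite G] {A B : Subgroup G} (h80 : E80 G) (h : Pr5 A B)
    (hA : ¬ 3 ∣ (core A (A ⊓ B)).relIndex A) (hB : ¬ 3 ∣ (core B (B ⊓ A)).relIndex B) :
    Nat.card A = 5 ∨ Nat.card A = 10 ∨ Nat.card A = 20 ∨ Nat.card A = 40 := by
  have sA : Sol A (A ⊓ B) := sol_of inf_le_left h.idx hA
  have sB : Sol B (B ⊓ A) := sol_of inf_le_left h.symm.idx hB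
  have h2 := two_group h sA sB
  obtain ⟨g, hg, hgD⟩ := exists_g h h2
  by_cases hD0 : A ⊓ B = ⊥
  · left
    rw [h.card_A, hD0, Subgroup.card_bot]
  by_cases hN : 5 ∣ Nat.card ↥(A ⊓ Subgroup.centralizer (core A (A ⊓ B) : Set G))
  · exact case_a h sA sB h80 h2 hg hgD hN
  · exact (case_b h sA h2 hD0 hg hgD hN).elim

end Cfsg.Agent.H973.Five
end

-- part: H121/Five/E80A
section
/-!
# S3568, the case of a stabiliser of order 80: normal subgroups (helper121)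

`A = C(k₁ ^ 2)` is a core-free maximal subgroup of order 80; `G` has no nontrivial normal subgroup which is abelian or
of odd order.
-/

set_option autoImplicit false

namespace Cfsg.Agent.H121.Five

open Subgroup Cfsg.Agent.H399

section

variable {G : Type*} [Group G]

/-- a subgroup of the core-free maximal subgroup `A` normalised by `A` and by a nontrivial normal subgroup is trivial -/
theorem eq_bot_of_normalized {A N X : Subgroup G} (hmax : IsCoatom A) (hcore : A.normalCore = ⊥) (hN : N.Normal)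
    (hNb : N ≠ ⊥) (hXA : X ≤ A) (h1 : A ≤ Nm X) (h2 : N ≤ Nm X) : X = ⊥ := by
  have hNA : ¬ N ≤ A := by
    intro h
    apply hNb
    rw [eq_bot_iff, ← hcore]
    exact Subgroup.normal_le_normalCore.2 h
  have hsup : A ⊔ N = ⊤ := hmax.2 _ (lt_of_le_of_ne le_sup_left (fun h => hNA (by rw [h]; exact le_sup_right)))
  have htop : Nm X = ⊤ := by
    rw [eq_top_iff, ← hsup]
    exact sup_le h1 h2
  have hXn : X.Normal := normalizer_eq_top_iff.1 htop
  rw [eq_bot_iff, ← hcore]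
  exact Subgroup.normal_le_normalCore.2 hXA

theorem inf_le_Nm_of {A N : Subgroup G} (hN : N.Normal) : A ≤ Nm (N ⊓ A) := by
  rw [le_Nm]
  intro h hh k hk
  exact ⟨hN.conj_mem k hk.1 h, A.mul_mem (A.mul_mem hh hk.2) (A.inv_mem hh)⟩

/-- the normal abelian subgroups meet `A` trivially -/
theorem inf_eq_bot_of_comm {A N : Subgroup G} (hmax : IsCoatom A) (hcore : A.normalCore = ⊥) (hN : N.Normal)
    (hc : ∀ x ∈ N, ∀ y ∈ N, x * y = y * x) : N ⊓ A = ⊥ := by
  by_cases hNb : N = ⊥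
  · rw [hNb, bot_inf_eq]
  refine eq_bot_of_normalized hmax hcore hN hNb inf_le_right (inf_le_Nm_of hN) ?_
  rw [le_Nm]
  intro h hh k hk
  rw [hc h hh k hk.1, mul_inv_cancel_right]
  exact hk

/-- an involution without fixed points inverts -/
theorem inverts [Finite G] {M : Subgroup G} (hM : M.Normal) {z : G} (hz : z * z = 1)
    (hfix : ∀ m ∈ M, z * m = m * z → m = 1) : ∀ m ∈ M, z * m * z⁻¹ = m⁻¹ := by
  intro m hm
  let φ : MulAut M := MulAut.conjNormal z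
  have h1 : MonoidHom.FixedPointFree φ := by
    intro x hx
    apply Subtype.ext
    have h2 : z * (x : G) * z⁻¹ = x := congrArg Subtype.val hx
    exact hfix x x.2 (mul_inv_eq_iff_eq_mul.1 h2)
  have h2 : Function.Involutive φ := by
    intro x
    apply Subtype.ext
    show z * (z * (x : G) * z⁻¹) * z⁻¹ = x
    have hz' : z⁻¹ = z := inv_eq_of_mul_eq_one_left hz
    calc z * (z * (x : G) * z⁻¹) * z⁻¹ = (z * z) * x * (z⁻¹ * z⁻¹) := by group
      _ = x := by rw [hz', hz, one_mul, mul_one]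
  have h3 := congrFun (h1.coe_eq_inv_of_involutive h2) ⟨m, hm⟩
  exact congrArg Subtype.val h3

theorem sq_eq_of_mem {k x : G} (hk : orderOf k = 4) (hx : x ∈ zpowers k) (hx4 : orderOf x = 4) : x ^ 2 = k ^ 2 := by
  obtain ⟨j, rfl⟩ := hx
  have hk4 : k ^ 4 = 1 := by rw [← hk, pow_orderOf_eq_one]
  rcases Int.even_or_odd' j with ⟨i, hi | hi⟩
  · exfalso
    have h1 : (k ^ j) ^ 2 = 1 := by
      rw [hi, ← zpow_natCast, ← zpow_mul]
      have : (2 * i * ((2 : ℕ) : ℤ)) = ((4 : ℕ) : ℤ) * i := by push_cast; ring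
      rw [this, zpow_mul, zpow_natCast, hk4, one_zpow]
    have h2 := orderOf_dvd_of_pow_eq_one h1
    change orderOf (k ^ j) = 4 at hx4
    rw [hx4] at h2
    omega
  · show (k ^ j) ^ 2 = k ^ 2
    rw [hi, ← zpow_natCast, ← zpow_mul]
    have : ((2 * i + 1) * ((2 : ℕ) : ℤ)) = ((4 : ℕ) : ℤ) * i + ((2 : ℕ) : ℤ) := by push_cast; ring
    rw [this, zpow_add, zpow_mul, zpow_natCast, zpow_natCast, hk4, one_zpow, one_mul]

end

section

variable {G : Type*} [Group G] {A : Subgroup G} {k₁ k₂ g : G}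

/-- the basic facts on the two involutions -/
theorem z_facts (ho₁ : orderOf k₁ = 4) (ho₂ : orderOf k₂ = 4) (hk : k₁ * k₂ = k₂ * k₁)
    (hi : zpowers k₁ ⊓ zpowers k₂ = ⊥) (hgk : g * k₁ * g⁻¹ ∈ zpowers k₂) :
    g * k₁ ^ 2 * g⁻¹ = k₂ ^ 2 ∧ k₁ ^ 2 * k₁ ^ 2 = 1 ∧ k₂ ^ 2 * k₂ ^ 2 = 1 ∧ k₁ ^ 2 * k₂ ^ 2 ≠ 1 ∧ k₁ ^ 2 ≠ 1 ∧ k₂ ^ 2 ≠ 1 ∧
      k₁ ^ 2 * k₂ ^ 2 = k₂ ^ 2 * k₁ ^ 2 := by
  have h4 : ∀ k : G, orderOf k = 4 → k ^ 2 * k ^ 2 = 1 := fun k h => by
    rw [← pow_add]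
    exact (congrArg (k ^ ·) h.symm).trans (pow_orderOf_eq_one k)
  have h2 : ∀ k : G, orderOf k = 4 → k ^ 2 ≠ 1 := fun k h h' => by
    have := orderOf_dvd_of_pow_eq_one h'
    rw [h] at this
    omega
  have hg : orderOf (g * k₁ * g⁻¹) = 4 := by
    rw [← ho₁]
    exact orderOf_injective (MulAut.conj g).toMonoidHom (MulAut.conj g).injective k₁
  refine ⟨?_, h4 _ ho₁, h4 _ ho₂, ?_, h2 _ ho₁, h2 _ ho₂, ?_⟩
  · rw [← sq_eq_of_mem ho₂ hgk hg, conj_pow]
  · intro h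
    apply h2 _ ho₁
    have h3 : k₁ ^ 2 = (k₂ ^ 2)⁻¹ := eq_inv_of_mul_eq_one_left h
    have h5 : k₁ ^ 2 ∈ zpowers k₁ ⊓ zpowers k₂ := by
      refine ⟨pow_mem (mem_zpowers _) _, ?_⟩
      show k₁ ^ 2 ∈ zpowers k₂
      rw [h3]
      exact inv_mem (pow_mem (mem_zpowers _) _)
    rw [hi] at h5
    exact mem_bot.1 h5
  · exact (show Commute k₁ k₂ from hk).pow_pow 2 2

/-- a normal subgroup meeting `A` trivially is trivial -/
theorem eq_bot_of_inf [Finite G] (hmax : IsCoatom A) (hcore : A.normalCore = ⊥)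
    (ho₁ : orderOf k₁ = 4) (ho₂ : orderOf k₂ = 4) (hk : k₁ * k₂ = k₂ * k₁) (hi : zpowers k₁ ⊓ zpowers k₂ = ⊥)
    (hA : A = centralizer {k₁ ^ 2}) (hgk : g * k₁ * g⁻¹ ∈ zpowers k₂) {M : Subgroup G} (hM : M.Normal)
    (h : M ⊓ A = ⊥) : M = ⊥ := by
  by_contra hMb
  obtain ⟨e1, e2, e3, e4, e5, e6, e7⟩ := z_facts ho₁ ho₂ hk hi hgk
  have f1 : ∀ m ∈ M, k₁ ^ 2 * m = m * k₁ ^ 2 → m = 1 := by
    intro m hm hc
    have h1 : m ∈ M ⊓ A := by
      refine ⟨hm, ?_⟩
      rw [hA]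
      exact mem_centralizer_singleton_iff.2 hc.symm
    rw [h] at h1
    exact mem_bot.1 h1
  have f2 : ∀ m ∈ M, k₂ ^ 2 * m = m * k₂ ^ 2 → m = 1 := by
    intro m hm hc
    have h1 : g⁻¹ * m * g = 1 := by
      refine f1 _ (by simpa using hM.conj_mem m hm g⁻¹) ?_
      have h2 : k₁ ^ 2 = g⁻¹ * k₂ ^ 2 * g := by rw [← e1]; group
      rw [h2]
      calc g⁻¹ * k₂ ^ 2 * g * (g⁻¹ * m * g) = g⁻¹ * (k₂ ^ 2 * m) * g := by group
        _ = g⁻¹ * (m * k₂ ^ 2) * g := by rw [hc]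
        _ = _ := by group
    calc m = g * (g⁻¹ * m * g) * g⁻¹ := by group
      _ = 1 := by rw [h1]; group
  have i1 := inverts hM e2 f1
  have i2 := inverts hM e3 f2
  -- `k₁² k₂²` centralises `M`
  have hc : ∀ m ∈ M, m * (k₁ ^ 2 * k₂ ^ 2) = (k₁ ^ 2 * k₂ ^ 2) * m := by
    intro m hm
    have h1 : k₁ ^ 2 * (k₂ ^ 2 * m * (k₂ ^ 2)⁻¹) * (k₁ ^ 2)⁻¹ = m := by
      rw [i2 m hm, i1 _ (M.inv_mem hm), inv_inv]
    calc m * (k₁ ^ 2 * k₂ ^ 2) = k₁ ^ 2 * (k₂ ^ 2 * m * (k₂ ^ 2)⁻¹) * (k₁ ^ 2)⁻¹ * (k₁ ^ 2 * k₂ ^ 2) := by rw [h1]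
      _ = _ := by group
  have hX : centralizer (M : Set G) ⊓ A = ⊥ := by
    refine eq_bot_of_normalized hmax hcore hM hMb inf_le_right (inf_le_Nm_of ?_) ?_
    · infer_instance
    · rw [le_Nm]
      intro m hm x hx
      have h1 : m * x = x * m := mem_centralizer_iff.1 hx.1 m hm
      rw [h1, mul_inv_cancel_right]
      exact hx
  have h2 : k₁ ^ 2 * k₂ ^ 2 ∈ centralizer (M : Set G) ⊓ A := by
    refine ⟨mem_centralizer_iff.2 hc, ?_⟩
    rw [hA]
    refine mem_centralizer_singleton_iff.2 ?_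
    rw [mul_assoc, ← e7, ← mul_assoc]
  rw [hX] at h2
  exact e4 (mem_bot.1 h2)

/-- no nontrivial normal abelian subgroups -/
theorem no_comm [Finite G] (hmax : IsCoatom A) (hcore : A.normalCore = ⊥)
    (ho₁ : orderOf k₁ = 4) (ho₂ : orderOf k₂ = 4) (hk : k₁ * k₂ = k₂ * k₁) (hi : zpowers k₁ ⊓ zpowers k₂ = ⊥)
    (hA : A = centralizer {k₁ ^ 2}) (hgk : g * k₁ * g⁻¹ ∈ zpowers k₂) {M : Subgroup G} (hM : M.Normal)
    (hc : ∀ x ∈ M, ∀ y ∈ M, x * y = y * x) : M = ⊥ :=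
  eq_bot_of_inf hmax hcore ho₁ ho₂ hk hi hA hgk hM (inf_eq_bot_of_comm hmax hcore hM hc)

/-- no nontrivial normal subgroups of odd order -/
theorem no_odd [Finite G] (hmax : IsCoatom A) (hcore : A.normalCore = ⊥) (hcard : Nat.card A = 80)
    (ho₁ : orderOf k₁ = 4) (ho₂ : orderOf k₂ = 4) (hk : k₁ * k₂ = k₂ * k₁) (hi : zpowers k₁ ⊓ zpowers k₂ = ⊥)
    (hA : A = centralizer {k₁ ^ 2}) (hgk : g * k₁ * g⁻¹ ∈ zpowers k₂) {N : Subgroup G} (hN : N.Normal)
    (hodd : Odd (Nat.card N)) : N = ⊥ := by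
  have hp5 : Fact (Nat.Prime 5) := ⟨Nat.prime_five⟩
  set F := N ⊓ A with hF
  have hF5 : Nat.card F ∣ 5 := by
    have h1 : Nat.card F ∣ 80 := hcard ▸ card_dvd_of_le (inf_le_right : N ⊓ A ≤ A)
    have h2 : Nat.card F ∣ Nat.card N := card_dvd_of_le inf_le_left
    have h3 : Odd (Nat.card F) := Odd.of_dvd_nat hodd h2
    have h4 : (Nat.card F).Coprime 16 := (Nat.coprime_two_right.2 h3).pow_right 4
    exact h4.dvd_of_dvd_mul_left (by simpa using h1)
  rcases (Nat.dvd_prime Nat.prime_five).1 hF5 with h1 | h5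
  · exact eq_bot_of_inf hmax hcore ho₁ ho₂ hk hi hA hgk hN (card_eq_one.1 h1)
  exfalso
  have hFb : F ≠ ⊥ := by
    intro h
    rw [h, card_bot] at h5
    omega
  -- the normaliser of `F` is `A`
  have hNmF : Nm F = A := by
    rcases hmax.le_iff.1 (inf_le_Nm_of hN : A ≤ Nm F) with h | h
    · exfalso
      apply hFb
      have hFn : F.Normal := normalizer_eq_top_iff.1 h
      rw [eq_bot_iff, ← hcore]
      exact Subgroup.normal_le_normalCore.2 inf_le_right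
    · exact h
  -- `F` is a self-normalising Sylow 5-subgroup of `N`
  set F' := F.subgroupOf N with hF'
  have hF'c : Nat.card F' = 5 := by
    rw [← h5]
    exact Nat.card_congr (subgroupOfEquivOfLe (inf_le_left : F ≤ N)).toEquiv
  have hnor : ∀ x : N, x ∈ Subgroup.normalizer (F' : Set N) → x ∈ F' := by
    intro x hx
    have h1 : (x : G) ∈ Nm F := by
      rw [Subgroup.mem_normalizer_iff]
      intro y
      constructor
      · intro hy
        have hyN : y ∈ N := hy.1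
        exact (Subgroup.mem_normalizer_iff.1 hx ⟨y, hyN⟩).1 hy
      · intro hy
        have hyN : y ∈ N := by
          have h2 : (x : G) * y * (x : G)⁻¹ ∈ N := hy.1
          have h3 := hN.conj_mem _ h2 (x : G)⁻¹
          have h4 : (x : G)⁻¹ * ((x : G) * y * (x : G)⁻¹) * (x : G)⁻¹⁻¹ = y := by group
          rwa [h4] at h3
        exact (Subgroup.mem_normalizer_iff.1 hx ⟨y, hyN⟩).2 hy
    rw [hNmF] at h1
    exact ⟨x.2, h1⟩
  have hnorc : Nat.card (Subgroup.normalizer (F' : Set N)) = 5 := by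
    have : Subgroup.normalizer (F' : Set N) = F' := le_antisymm (fun x hx => hnor x hx) le_normalizer
    rw [this, hF'c]
  have h25 : ¬ 5 ^ 2 ∣ Nat.card N := by
    intro h
    have h2 := Sylow.prime_pow_dvd_card_normalizer (p := 5) (n := 1) h (H := F') (by rw [hF'c]; norm_num)
    rw [hnorc] at h2
    omega
  have h5N : 5 ∣ Nat.card N := hF'c ▸ card_subgroup_dvd_card F'
  have hfac : (Nat.card N).factorization 5 = 1 := by
    have h2 : (Nat.card N).factorization 5 ≠ 0 := by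
      rw [Ne, Nat.factorization_eq_zero_iff]
      push Not
      exact ⟨Nat.prime_five, h5N, Nat.card_pos.ne'⟩
    have h3 : ¬ 2 ≤ (Nat.card N).factorization 5 := fun h =>
      h25 ((Nat.Prime.pow_dvd_iff_le_factorization Nat.prime_five Nat.card_pos.ne').2 h)
    omega
  let P : Sylow 5 N := Sylow.ofCard F' (by rw [hfac, hF'c]; norm_num)
  have hPF : (P : Subgroup N) = F' := Sylow.coe_ofCard F' _
  have hcyc : IsCyclic F' := isCyclic_of_prime_card hF'c
  have hcomm : ∀ x ∈ F', ∀ y ∈ F', x * y = y * x := by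
    intro x hx y hy
    exact congrArg Subtype.val ((IsCyclic.isMulCommutative (α := F')).is_comm.comm ⟨x, hx⟩ ⟨y, hy⟩)
  have hP : Subgroup.normalizer ((P : Subgroup N) : Set N) ≤ centralizer ((P : Subgroup N) : Set N) := by
    intro x hx
    rw [hPF] at hx ⊢
    rw [mem_centralizer_iff]
    intro y hy
    exact hcomm y hy x (hnor x hx)
  have hcompl := MonoidHom.ker_transferSylow_isComplement' P hP
  set K := (MonoidHom.transferSylow P hP).ker with hK
  have hKc : Nat.card K * 5 = Nat.card N := by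
    have h2 := hcompl.card_mul_card
    rw [← hF'c, ← hPF]
    exact h2
  have hK5 : (Nat.card K).Coprime 5 := by
    rw [Nat.coprime_comm, Nat.Prime.coprime_iff_not_dvd Nat.prime_five]
    intro h
    apply h25
    rw [← hKc, pow_two]
    exact Nat.mul_dvd_mul_right h 5
  have hM : N ⊓ Cfsg.pPrimeCore 5 G = ⊥ := by
    have hn1 : (N ⊓ Cfsg.pPrimeCore 5 G).Normal := by
      have := Cfsg.Agent.Lib.Cores.pPrimeCore_normal (G := G) 5
      infer_instance
    refine eq_bot_of_inf hmax hcore ho₁ ho₂ hk hi hA hgk hn1 ?_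
    have hle1 : N ⊓ Cfsg.pPrimeCore 5 G ⊓ A ≤ F := fun x hx => ⟨hx.1.1, hx.2⟩
    have hle2 : N ⊓ Cfsg.pPrimeCore 5 G ⊓ A ≤ Cfsg.pPrimeCore 5 G := fun x hx => hx.1.2
    have h2 := card_dvd_of_le hle1
    have h3 := card_dvd_of_le hle2
    rw [h5] at h2
    have h4 : (Nat.card ↥(N ⊓ Cfsg.pPrimeCore 5 G ⊓ A)).Coprime 5 :=
      (Cfsg.Agent.Lib.Cores.pPrimeCore_coprime (G := G) 5).coprime_dvd_left h3
    exact card_eq_one.1 (Nat.eq_one_of_dvd_coprimes h4 dvd_rfl h2)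
  have hKb : K = ⊥ := by
    have h2 : K ≤ Cfsg.pPrimeCore 5 N := Cfsg.Agent.Lib.Cores.le_pPrimeCore inferInstance hK5
    have h3 := Cfsg.Agent.Lib.Cores.map_subtype_pPrimeCore (G := G) 5 hN
    rw [hM] at h3
    rw [eq_bot_iff]
    refine h2.trans ?_
    rw [(Subgroup.map_eq_bot_iff_of_injective _ N.subtype_injective).1 h3]
  rw [hKb, card_bot, one_mul] at hKc
  have hNF : F = N := by
    refine eq_of_le_of_card_ge inf_le_left ?_
    rw [h5, ← hKc]
  apply hFb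
  have hFn : F.Normal := by rw [hNF]; exact hN
  rw [eq_bot_iff, ← hcore]
  exact Subgroup.normal_le_normalCore.2 inf_le_right

end

end Cfsg.Agent.H121.Five
end

-- part: H121/Five/E80B
section
/-!
# S3568, the case of a stabiliser of order 80: the Sylow 2-subgroups (helper121)
-/

set_option autoImplicit false

namespace Cfsg.Agent.H121.Five

open Pointwise

open Subgroup Cfsg.Agent.H399

section

variable {G : Type*} [Group G] {k₁ k₂ g : G}

theorem zp_comm (hk : k₁ * k₂ = k₂ * k₁) {x y : G} (hx : x ∈ zpowers k₁) (hy : y ∈ zpowers k₂) : x * y = y * x := by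
  obtain ⟨i, rfl⟩ := hx
  obtain ⟨j, rfl⟩ := hy
  exact ((show Commute k₁ k₂ from hk).zpow_zpow i j).eq

theorem mem_sup_iff (hk : k₁ * k₂ = k₂ * k₁) {x : G} :
    x ∈ zpowers k₁ ⊔ zpowers k₂ ↔ ∃ a b : ℤ, x = k₁ ^ a * k₂ ^ b := by
  have hle : zpowers k₁ ≤ Nm (zpowers k₂) := by
    rw [le_Nm]
    intro h hh y hy
    rw [zp_comm hk hh hy, mul_inv_cancel_right]
    exact hy
  rw [mul_mem_sup_iff hle]
  constructor
  · rintro ⟨_, ⟨a, rfl⟩, _, ⟨b, rfl⟩, rfl⟩
    exact ⟨a, b, rfl⟩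
  · rintro ⟨a, b, rfl⟩
    exact ⟨_, ⟨a, rfl⟩, _, ⟨b, rfl⟩, rfl⟩

theorem sup_comm (hk : k₁ * k₂ = k₂ * k₁) {x y : G} (hx : x ∈ zpowers k₁ ⊔ zpowers k₂)
    (hy : y ∈ zpowers k₁ ⊔ zpowers k₂) : x * y = y * x := by
  obtain ⟨a, b, rfl⟩ := (mem_sup_iff hk).1 hx
  obtain ⟨c, d, rfl⟩ := (mem_sup_iff hk).1 hy
  have h1 : Commute k₁ k₂ := hk
  have e1 : Commute (k₁ ^ a * k₂ ^ b) (k₁ ^ c) :=
    Commute.mul_left ((Commute.refl k₁).zpow_zpow a c) (h1.symm.zpow_zpow b c)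
  have e2 : Commute (k₁ ^ a * k₂ ^ b) (k₂ ^ d) :=
    Commute.mul_left (h1.zpow_zpow a d) ((Commute.refl k₂).zpow_zpow b d)
  exact (e1.mul_right e2).eq

theorem zpow_eq_of_sq {k : G} (hk : orderOf k = 4) {a : ℤ} (h : k ^ a * k ^ a = 1) : k ^ a = 1 ∨ k ^ a = k ^ 2 := by
  have hk4 : k ^ 4 = 1 := (congrArg (k ^ ·) hk.symm).trans (pow_orderOf_eq_one k)
  have h1 : ((4 : ℕ) : ℤ) ∣ a + a := by
    rw [← hk, orderOf_dvd_iff_zpow_eq_one, zpow_add]
    exact h
  rcases Int.even_or_odd' (a / 2) with ⟨i, hi | hi⟩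
  · left
    have h2 : a = ((4 : ℕ) : ℤ) * i := by push_cast at h1 ⊢; omega
    rw [h2, zpow_mul, zpow_natCast, hk4, one_zpow]
  · right
    have h2 : a = ((4 : ℕ) : ℤ) * i + ((2 : ℕ) : ℤ) := by push_cast at h1 ⊢; omega
    rw [h2, zpow_add, zpow_mul, zpow_natCast, zpow_natCast, hk4, one_zpow, one_mul]

/-- the involutions of `D` -/
theorem invol_D (ho₁ : orderOf k₁ = 4) (ho₂ : orderOf k₂ = 4) (hk : k₁ * k₂ = k₂ * k₁)
    (hi : zpowers k₁ ⊓ zpowers k₂ = ⊥) {x : G} (hx : x ∈ zpowers k₁ ⊔ zpowers k₂) (h : x * x = 1) (h1 : x ≠ 1) :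
    x = k₁ ^ 2 ∨ x = k₂ ^ 2 ∨ x = k₁ ^ 2 * k₂ ^ 2 := by
  obtain ⟨a, b, rfl⟩ := (mem_sup_iff hk).1 hx
  have hc : Commute k₁ k₂ := hk
  have e : (k₁ ^ a * k₁ ^ a) * (k₂ ^ b * k₂ ^ b) = 1 := by
    rw [← h]
    have := (hc.zpow_zpow a b).eq
    calc (k₁ ^ a * k₁ ^ a) * (k₂ ^ b * k₂ ^ b) = k₁ ^ a * (k₁ ^ a * k₂ ^ b) * k₂ ^ b := by group
      _ = k₁ ^ a * (k₂ ^ b * k₁ ^ a) * k₂ ^ b := by rw [this]
      _ = _ := by group
  have e1 : k₁ ^ a * k₁ ^ a = 1 := by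
    have h2 : k₁ ^ a * k₁ ^ a ∈ zpowers k₁ ⊓ zpowers k₂ := by
      refine ⟨mul_mem (zpow_mem (mem_zpowers _) _) (zpow_mem (mem_zpowers _) _), ?_⟩
      show k₁ ^ a * k₁ ^ a ∈ zpowers k₂
      rw [eq_inv_of_mul_eq_one_left e]
      exact inv_mem (mul_mem (zpow_mem (mem_zpowers _) _) (zpow_mem (mem_zpowers _) _))
    rw [hi] at h2
    exact mem_bot.1 h2
  have e2 : k₂ ^ b * k₂ ^ b = 1 := by rwa [e1, one_mul] at e
  rcases zpow_eq_of_sq ho₁ e1 with f1 | f1 <;> rcases zpow_eq_of_sq ho₂ e2 with f2 | f2 <;> rw [f1, f2] at h1 ⊢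
  · exact absurd (one_mul 1) h1
  · right; left; rw [one_mul]
  · left; rw [mul_one]
  · right; right; rfl

variable [Finite G] {A D : Subgroup G}

/-- the index of `D` in its normaliser is 2 or 3 -/
theorem relIndex_D (ho₁ : orderOf k₁ = 4) (ho₂ : orderOf k₂ = 4) (hk : k₁ * k₂ = k₂ * k₁)
    (hi : zpowers k₁ ⊓ zpowers k₂ = ⊥) (hD : D = zpowers k₁ ⊔ zpowers k₂)
    (hA : A = centralizer {k₁ ^ 2}) (hND : A ⊓ Nm D = D) (hg : g ∈ Nm D) (hgk : g * k₁ * g⁻¹ ∈ zpowers k₂) :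
    D.relIndex (Nm D) = 2 ∨ D.relIndex (Nm D) = 3 := by
  obtain ⟨e1, e2, e3, e4, e5, e6, e7⟩ := z_facts ho₁ ho₂ hk hi hgk
  have hk1D : k₁ ∈ D := by rw [hD]; exact le_sup_left (a := zpowers k₁) (mem_zpowers k₁)
  have hz1D : k₁ ^ 2 ∈ D := pow_mem hk1D 2
  have hne : k₁ ^ 2 ≠ k₂ ^ 2 := by
    intro h
    apply e4
    rw [← h, e2]
  have hgD : g ∉ D := by
    intro h
    apply hne
    rw [← e1]
    have h1 := sup_comm hk (hD ▸ h) (hD ▸ hz1D)
    rw [h1, mul_inv_cancel_right]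
  have hle : D.relIndex (Nm D) ≤ 3 := by
    let S : Set G := {k₁ ^ 2, k₂ ^ 2, k₁ ^ 2 * k₂ ^ 2}
    have hS : Nat.card S ≤ 3 := by
      rw [Nat.card_coe_set_eq]
      exact (Set.ncard_insert_le _ _).trans (Nat.add_le_add_right ((Set.ncard_insert_le _ _).trans
        (by rw [Set.ncard_singleton])) 1)
    have hmem : ∀ n : ↥(Nm D), (n : G) * k₁ ^ 2 * (n : G)⁻¹ ∈ S := by
      intro n
      have h1 : (n : G) * k₁ ^ 2 * (n : G)⁻¹ ∈ D := (mem_normalizer_iff.1 n.2 _).1 hz1D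
      have h1 := hD.le h1
      have h2 : ((n : G) * k₁ ^ 2 * (n : G)⁻¹) * ((n : G) * k₁ ^ 2 * (n : G)⁻¹) = 1 := by
        calc ((n : G) * k₁ ^ 2 * (n : G)⁻¹) * ((n : G) * k₁ ^ 2 * (n : G)⁻¹) = n * (k₁ ^ 2 * k₁ ^ 2) * (n : G)⁻¹ := by
              group
          _ = 1 := by rw [e2]; group
      have h3 : (n : G) * k₁ ^ 2 * (n : G)⁻¹ ≠ 1 := by
        intro h
        apply e5
        exact conj_eq_one_iff.1 h
      exact invol_D ho₁ ho₂ hk hi h1 h2 h3
    let f : (↥(Nm D) ⧸ D.subgroupOf (Nm D)) → S := fun q => Quotient.liftOn' q (fun n => ⟨_, hmem n⟩) (by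
      intro n m hnm
      have h1 : n⁻¹ * m ∈ D.subgroupOf (Nm D) := QuotientGroup.leftRel_apply.1 hnm
      have h2 : (n : G)⁻¹ * m ∈ D := h1
      have h3 := sup_comm hk (hD.le h2) (hD.le hz1D)
      apply Subtype.ext
      show (n : G) * k₁ ^ 2 * (n : G)⁻¹ = m * k₁ ^ 2 * (m : G)⁻¹
      calc (n : G) * k₁ ^ 2 * (n : G)⁻¹ = n * (k₁ ^ 2 * ((n : G)⁻¹ * m)) * (m : G)⁻¹ := by group
        _ = n * (((n : G)⁻¹ * m) * k₁ ^ 2) * (m : G)⁻¹ := by rw [h3]
        _ = _ := by group)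
    have hf : Function.Injective f := by
      intro p q
      induction p using QuotientGroup.induction_on with | H n =>
      induction q using QuotientGroup.induction_on with | H m =>
      intro h
      have h1 : (n : G) * k₁ ^ 2 * (n : G)⁻¹ = m * k₁ ^ 2 * (m : G)⁻¹ := congrArg Subtype.val h
      apply QuotientGroup.eq.2
      show (n : G)⁻¹ * m ∈ D
      refine hND.le ⟨?_, (Nm D).mul_mem ((Nm D).inv_mem n.2) m.2⟩
      show (n : G)⁻¹ * m ∈ A
      rw [hA]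
      refine mem_centralizer_singleton_iff.2 ?_
      calc (n : G)⁻¹ * m * k₁ ^ 2 = (n : G)⁻¹ * (m * k₁ ^ 2 * (m : G)⁻¹) * m := by group
        _ = (n : G)⁻¹ * (n * k₁ ^ 2 * (n : G)⁻¹) * m := by rw [h1]
        _ = _ := by group
    exact (Nat.card_le_card_of_injective f hf).trans hS
  have h0 : D.relIndex (Nm D) ≠ 0 := Subgroup.index_ne_zero_of_finite
  have h1 : D.relIndex (Nm D) ≠ 1 := by
    intro h
    exact hgD (Subgroup.relIndex_eq_one.1 h hg)
  omega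

/-- `D` is homocyclic -/
theorem homocyclic (hDc : Nat.card D = 16) (ho₁ : orderOf k₁ = 4) (ho₂ : orderOf k₂ = 4) (hk : k₁ * k₂ = k₂ * k₁)
    (hD : D = zpowers k₁ ⊔ zpowers k₂) : Nonempty (D ≃* Multiplicative (ZMod (2 ^ 2) × ZMod (2 ^ 2))) := by
  have hc : ∀ k : G, orderOf k = 4 → Nonempty (zpowers k ≃* Multiplicative (ZMod (2 ^ 2))) := by
    intro k hk
    refine ⟨mulEquivOfCyclicCardEq ?_⟩
    rw [Nat.card_zpowers, hk, Nat.card_congr Multiplicative.toAdd, Nat.card_zmod]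
    norm_num
  obtain ⟨c₁⟩ := hc _ ho₁
  obtain ⟨c₂⟩ := hc _ ho₂
  let φ : zpowers k₁ × zpowers k₂ →* D :=
    { toFun := fun x => ⟨x.1 * x.2, by
        rw [hD]
        exact mul_mem (le_sup_left (a := zpowers k₁) x.1.2) (le_sup_right (a := zpowers k₁) x.2.2)⟩
      map_one' := Subtype.ext (mul_one 1)
      map_mul' := fun x y => Subtype.ext (by
        show ((x.1 : G) * y.1) * (x.2 * y.2) = (x.1 * x.2) * (y.1 * y.2)
        have h := zp_comm hk y.1.2 x.2.2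
        calc ((x.1 : G) * y.1) * (x.2 * y.2) = x.1 * (y.1 * x.2) * y.2 := by group
          _ = x.1 * (x.2 * y.1) * y.2 := by rw [h]
          _ = _ := by group) }
  have hs : Function.Surjective φ := by
    rintro ⟨x, hx⟩
    rw [hD] at hx
    obtain ⟨a, b, rfl⟩ := (mem_sup_iff hk).1 hx
    exact ⟨(⟨_, ⟨a, rfl⟩⟩, ⟨_, ⟨b, rfl⟩⟩), rfl⟩
  have hb : Function.Bijective φ := by
    rw [Nat.bijective_iff_surjective_and_card]
    refine ⟨hs, ?_⟩
    rw [Nat.card_prod, Nat.card_zpowers, Nat.card_zpowers, ho₁, ho₂, hDc]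
  exact ⟨(MulEquiv.ofBijective φ hb).symm.trans ((c₁.prodCongr c₂).trans (MulEquiv.prodMultiplicative _ _).symm)⟩

/-- if `|N(D)| = 32` then `N(D)` is its own normaliser -/
theorem normalizer_Nm (hDc : Nat.card D = 16) (ho₁ : orderOf k₁ = 4) (hk : k₁ * k₂ = k₂ * k₁)
    (hi : zpowers k₁ ⊓ zpowers k₂ = ⊥) (hD : D = zpowers k₁ ⊔ zpowers k₂)
    (hg : g ∈ Nm D) (hgk : g * k₁ * g⁻¹ ∈ zpowers k₂) (h32 : Nat.card (Nm D) = 32) : Nm (Nm D) = Nm D := by
  refine le_antisymm (fun x hx => ?_) le_normalizer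
  rw [mem_Nm]
  by_contra hne
  set D' := cj x D with hD'
  have hD'c : Nat.card D' = 16 := by rw [hD', card_cj, hDc]
  have hD'le : D' ≤ Nm D := by
    rw [← mem_Nm.1 hx]
    exact cj_le_cj.2 le_normalizer
  have hlt : D < D ⊔ D' := by
    refine lt_of_le_of_ne le_sup_left ?_
    intro h
    apply hne
    have h1 : D' ≤ D := by rw [h]; exact le_sup_right
    exact eq_of_le_of_card_ge h1 (by rw [hDc, hD'c])
  have hsup : D ⊔ D' = Nm D := by
    refine eq_of_le_of_card_ge (sup_le le_normalizer hD'le) ?_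
    have h1 : Nat.card ↥(D ⊔ D') ∣ 32 := h32 ▸ card_dvd_of_le (sup_le le_normalizer hD'le)
    have h2 : Nat.card D ∣ Nat.card ↥(D ⊔ D') := card_dvd_of_le le_sup_left
    have h3 : Nat.card D ≠ Nat.card ↥(D ⊔ D') := by
      intro h
      exact hlt.ne (eq_of_le_of_card_ge le_sup_left h.ge)
    rw [hDc] at h2 h3
    have h4 : 0 < Nat.card ↥(D ⊔ D') := Nat.card_pos
    rw [h32]
    obtain ⟨c, hc⟩ := h2
    rcases (show c = 0 ∨ c = 1 ∨ 2 ≤ c by omega) with rfl | rfl | hc2 <;> omega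
  -- `D ∩ D'` centralises `g`
  have hc1 : ∀ y ∈ D ⊓ D', g * y = y * g := by
    intro y hy
    have h1 : D ≤ centralizer {y} := by
      intro d hd
      exact mem_centralizer_singleton_iff.2 (sup_comm hk (hD ▸ hd) (hD ▸ hy.1))
    have h2 : D' ≤ centralizer {y} := by
      intro d hd
      refine mem_centralizer_singleton_iff.2 ?_
      have h3 := sup_comm hk (hD ▸ (mem_cj.1 hd)) (hD ▸ (mem_cj.1 hy.2))
      calc d * y = x * (x⁻¹ * d * x * (x⁻¹ * y * x)) * x⁻¹ := by group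
        _ = x * (x⁻¹ * y * x * (x⁻¹ * d * x)) * x⁻¹ := by rw [h3]
        _ = _ := by group
    have h3 : g ∈ centralizer {y} := sup_le h1 h2 (by rw [hsup]; exact hg)
    exact mem_centralizer_singleton_iff.1 h3
  have hinf : (D ⊓ D') ⊓ zpowers k₁ = ⊥ := by
    rw [eq_bot_iff]
    rintro y ⟨hy, hy1⟩
    obtain ⟨i, hi1⟩ := hy1
    have hi1 : k₁ ^ i = y := hi1
    have h1 := hc1 y hy
    have h2 : y = (g * k₁ * g⁻¹) ^ i := by
      rw [conj_zpow, hi1, h1, mul_inv_cancel_right]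
    have h3 : y ∈ zpowers k₁ ⊓ zpowers k₂ := by
      refine ⟨⟨i, hi1⟩, ?_⟩
      rw [h2]
      exact zpow_mem hgk i
    rwa [hi] at h3
  have hcard1 := Cfsg.Agent.Lib.ProductSet.card_mul_card_inf (D ⊓ D') (zpowers k₁)
  rw [hinf, card_bot, mul_one, Nat.card_zpowers, ho₁] at hcard1
  have hcard2 := Cfsg.Agent.Lib.ProductSet.card_mul_card_inf D D'
  rw [hDc, hD'c] at hcard2
  have hle1 : Nat.card (((D ⊓ D' : Subgroup G) : Set G) * (zpowers k₁ : Set G) : Set G) ≤ 16 := by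
    rw [← hDc]
    refine Nat.card_mono (Set.toFinite _) ?_
    rintro _ ⟨a, ha, b, hb, rfl⟩
    refine D.mul_mem ha.1 ?_
    rw [hD]
    exact le_sup_left (a := zpowers k₁) hb
  have hle2 : Nat.card ((D : Set G) * (D' : Set G) : Set G) ≤ 32 := by
    rw [← h32]
    refine Nat.card_mono (Set.toFinite _) ?_
    rintro _ ⟨a, ha, b, hb, rfl⟩
    exact (Nm D).mul_mem (le_normalizer ha) (hD'le hb)
  nlinarith

/-- the swapping involution -/
theorem exists_t (hk : k₁ * k₂ = k₂ * k₁) (ho₁ : orderOf k₁ = 4) (ho₂ : orderOf k₂ = 4)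
    (hi : zpowers k₁ ⊓ zpowers k₂ = ⊥) (hD : D = zpowers k₁ ⊔ zpowers k₂)
    (hgk : g * k₁ * g⁻¹ ∈ zpowers k₂) (hg2 : g * g ∈ D) :
    ∃ t : G, t * t = 1 ∧ t * k₁ * t⁻¹ = g * k₁ * g⁻¹ ∧ t ∈ zpowers g ⊔ D := by
  set y := g * k₁ * g⁻¹ with hy
  have hk1D : k₁ ∈ D := by rw [hD]; exact le_sup_left (a := zpowers k₁) (mem_zpowers k₁)
  have hyo : orderOf y = 4 := by
    rw [← ho₁]
    exact orderOf_injective (MulAut.conj g).toMonoidHom (MulAut.conj g).injective k₁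
  have hzy : zpowers y = zpowers k₂ := by
    refine eq_of_le_of_card_ge (zpowers_le.2 hgk) ?_
    rw [Nat.card_zpowers, Nat.card_zpowers, hyo, ho₂]
  have hky : Commute k₁ y := zp_comm hk (mem_zpowers k₁) hgk
  have hgy : g * y * g⁻¹ = k₁ := by
    have h1 := sup_comm hk (hD ▸ hg2) (hD ▸ hk1D)
    calc g * y * g⁻¹ = (g * g) * k₁ * (g * g)⁻¹ := by rw [hy]; group
      _ = k₁ := by rw [h1, mul_inv_cancel_right]
  obtain ⟨a, b', hab⟩ := (mem_sup_iff hk).1 (hD ▸ hg2)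
  obtain ⟨b, hb⟩ : ∃ b : ℤ, y ^ b = k₂ ^ b' := by
    have h1 : k₂ ^ b' ∈ zpowers y := by rw [hzy]; exact zpow_mem (mem_zpowers _) _
    exact h1
  rw [← hb] at hab
  have h2 : g * g = y ^ a * k₁ ^ b := by
    calc g * g = g * (g * g) * g⁻¹ := by group
      _ = g * (k₁ ^ a * y ^ b) * g⁻¹ := by rw [hab]
      _ = (g * k₁ ^ a * g⁻¹) * (g * y ^ b * g⁻¹) := by group
      _ = (g * k₁ * g⁻¹) ^ a * (g * y * g⁻¹) ^ b := by
        have c1 : (g * k₁ * g⁻¹) ^ a = g * k₁ ^ a * g⁻¹ := conj_zpow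
        have c2 : (g * y * g⁻¹) ^ b = g * y ^ b * g⁻¹ := conj_zpow
        rw [c1, c2]
      _ = y ^ a * k₁ ^ b := by rw [hgy]
  have h3 : k₁ ^ (a - b) = y ^ (a - b) := by
    have h4 : k₁ ^ a * y ^ b = y ^ a * k₁ ^ b := hab.symm.trans h2
    have h5 := (hky.zpow_zpow b b).eq
    rw [zpow_sub, zpow_sub]
    calc k₁ ^ a * (k₁ ^ b)⁻¹ = (k₁ ^ a * y ^ b) * (k₁ ^ b * y ^ b)⁻¹ := by group
      _ = (y ^ a * k₁ ^ b) * (y ^ b * k₁ ^ b)⁻¹ := by rw [h4, h5]
      _ = _ := by group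
  have h6 : k₁ ^ (a - b) = 1 := by
    have h7 : k₁ ^ (a - b) ∈ zpowers k₁ ⊓ zpowers k₂ := by
      refine ⟨zpow_mem (mem_zpowers _) _, ?_⟩
      rw [h3, ← hzy]
      exact zpow_mem (mem_zpowers _) _
    rw [hi] at h7
    exact mem_bot.1 h7
  have h8 : g * g = k₁ ^ a * y ^ a := by
    have h9 : y ^ a = y ^ b := by
      have : y ^ (a - b) = 1 := by rw [← h3, h6]
      rw [zpow_sub] at this
      exact mul_inv_eq_one.1 this
    rw [hab, h9]
  refine ⟨g * k₁ ^ (-a), ?_, ?_, ?_⟩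
  · -- `g⁻¹ k₁ g = y`
    have h10 : g⁻¹ * k₁ * g = y := by
      have h1 := sup_comm hk (hD ▸ hg2) (hD ▸ (show y ∈ D by
        rw [hD]; exact le_sup_right (a := zpowers k₁) hgk))
      calc g⁻¹ * k₁ * g = (g * g)⁻¹ * (g * k₁ * g⁻¹) * (g * g) := by group
        _ = (g * g)⁻¹ * (y * (g * g)) := by rw [← hy]; group
        _ = (g * g)⁻¹ * ((g * g) * y) := by rw [h1]
        _ = y := by group
    have h11 : g⁻¹ * k₁ ^ (-a) * g = y ^ (-a) := by
      have := conj_zpow (a := g⁻¹) (b := k₁) (i := -a)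
      rw [inv_inv, h10] at this
      exact this.symm
    calc g * k₁ ^ (-a) * (g * k₁ ^ (-a)) = (g * g) * (g⁻¹ * k₁ ^ (-a) * g) * k₁ ^ (-a) := by group
      _ = k₁ ^ a * y ^ a * y ^ (-a) * k₁ ^ (-a) := by rw [h11, h8]
      _ = 1 := by group
  · rw [hy]
    group
  · exact mul_mem (le_sup_left (a := zpowers g) (mem_zpowers g))
      (le_sup_right (a := zpowers g) (zpow_mem hk1D _))

end

end Cfsg.Agent.H121.Five
end

-- part: H121/Five/E80
section
/-!
# S3568, the case of a stabiliser of order 80 (helper121)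
-/

set_option autoImplicit false

namespace Cfsg.Agent.H121.Five

open Subgroup Cfsg.Agent.H399

theorem fac_eq {G : Type*} [Group G] [Finite G] {n : ℕ} (h1 : 2 ^ n ∣ Nat.card G) (h2 : ¬ 2 ^ (n + 1) ∣ Nat.card G) :
    (Nat.card G).factorization 2 = n := by
  have h3 := (Nat.Prime.pow_dvd_iff_le_factorization Nat.prime_two Nat.card_pos.ne').1 h1
  have h4 : ¬ n + 1 ≤ (Nat.card G).factorization 2 := fun h =>
    h2 ((Nat.Prime.pow_dvd_iff_le_factorization Nat.prime_two Nat.card_pos.ne').2 h)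
  omega

theorem e80 {G : Type*} [Group G] [Finite G] {A D : Subgroup G} (hmax : IsCoatom A) (hcore : A.normalCore = ⊥)
    (hcard : Nat.card A = 80)
    (hDA : D ≤ A) (hDc : Nat.card D = 16) (k₁ k₂ : G) (ho₁ : orderOf k₁ = 4) (ho₂ : orderOf k₂ = 4) (hk : k₁ * k₂ = k₂ * k₁)
    (hi : Subgroup.zpowers k₁ ⊓ Subgroup.zpowers k₂ = ⊥) (hD : D = Subgroup.zpowers k₁ ⊔ Subgroup.zpowers k₂)
    (hA : A = Subgroup.centralizer {k₁ ^ 2}) (hND : A ⊓ Nm D = D) (g : G) (hg : g ∈ Nm D)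
    (hgk : g * k₁ * g⁻¹ ∈ Subgroup.zpowers k₂) : False := by
  have hp2 : Fact (Nat.Prime 2) := ⟨Nat.prime_two⟩
  have hO : ∀ N : Subgroup G, N.Normal → Odd (Nat.card N) → N = ⊥ := fun N hN ho =>
    no_odd hmax hcore hcard ho₁ ho₂ hk hi hA hgk hN ho
  have hab : ∀ N : Subgroup G, N.Normal → (∀ x ∈ N, ∀ y ∈ N, x * y = y * x) → N = ⊥ := fun N hN hc =>
    no_comm hmax hcore ho₁ ho₂ hk hi hA hgk hN hc
  have hGc : 80 ≤ Nat.card G := hcard ▸ card_le_card_group A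
  have hrel := relIndex_D ho₁ ho₂ hk hi hD hA hND hg hgk
  have hcN : Nat.card D * D.relIndex (Nm D) = Nat.card (Nm D) := by
    have h := relIndex_mul_relIndex (⊥ : Subgroup G) D (Nm D) bot_le le_normalizer
    rwa [relIndex_bot_left, relIndex_bot_left] at h
  rw [hDc] at hcN
  rcases hrel with hrel | hrel
  swap
  · -- `D` is a Sylow 2-subgroup
    rw [hrel] at hcN
    have h32 : ¬ 2 ^ (4 + 1) ∣ Nat.card G := by
      intro h
      have h1 := Sylow.prime_pow_dvd_card_normalizer (p := 2) (n := 4) h (H := D) (by rw [hDc]; norm_num)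
      have h2 : Nat.card (Subgroup.normalizer (D : Set G)) = 16 * 3 := hcN.symm
      rw [h2] at h1
      norm_num at h1
    have hfac := fac_eq (n := 4) (by
      have := card_subgroup_dvd_card D
      rw [hDc] at this
      simpa using this) h32
    let P : Sylow 2 G := Sylow.ofCard D (by rw [hfac, hDc]; norm_num)
    have hPD : (P : Subgroup G) = D := Sylow.coe_ofCard D _
    obtain ⟨e⟩ := homocyclic hDc ho₁ ho₂ hk hD
    obtain ⟨-, -, h3⟩ := S0949.result P 2 le_rfl ((MulEquiv.subgroupCongr hPD).trans e) hO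
    have h4 := (P : Subgroup G).card_mul_index
    rw [hPD, hDc] at h4
    rw [hPD] at h3
    rcases h3 with h3 | h3 <;> rw [h3] at h4 <;> omega
  · -- `N(D)` is a Sylow 2-subgroup, wreathed
    rw [hrel] at hcN
    have h32 : Nat.card (Nm D) = 32 := hcN.symm
    have hself := normalizer_Nm hDc ho₁ hk hi hD hg hgk h32
    have h64 : ¬ 2 ^ (5 + 1) ∣ Nat.card G := by
      intro h
      have h1 := Sylow.prime_pow_dvd_card_normalizer (p := 2) (n := 5) h (H := Nm D) (by rw [h32]; norm_num)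
      have h2 : Nat.card (Subgroup.normalizer ((Nm D : Subgroup G) : Set G)) = 32 := by
        have h3 : Subgroup.normalizer ((Nm D : Subgroup G) : Set G) = Nm D := hself
        rw [h3, h32]
      rw [h2] at h1
      norm_num at h1
    have hfac := fac_eq (n := 5) (by
      have := card_subgroup_dvd_card (Nm D)
      rw [h32] at this
      simpa using this) h64
    let S : Sylow 2 G := Sylow.ofCard (Nm D) (by rw [hfac, h32]; norm_num)
    have hSD : (S : Subgroup G) = Nm D := Sylow.coe_ofCard (Nm D) _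
    have hSc : Nat.card S = 2 ^ (2 * 2 + 1) := by
      have : Nat.card (S : Subgroup G) = 32 := by rw [hSD, h32]
      exact this.trans (by norm_num)
    have hDS : D ≤ S := by rw [hSD]; exact le_normalizer
    have hk1D : k₁ ∈ D := by rw [hD]; exact le_sup_left (a := zpowers k₁) (mem_zpowers k₁)
    have hyD : g * k₁ * g⁻¹ ∈ D := by rw [hD]; exact le_sup_right (a := zpowers k₁) hgk
    have hg2 : g * g ∈ D := by
      have h1 := Subgroup.sq_mem_of_index_two (H := D.subgroupOf (Nm D)) hrel ⟨g, hg⟩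
      rw [pow_two] at h1
      exact h1
    obtain ⟨t, ht2, htk, htm⟩ := exists_t hk ho₁ ho₂ hi hD hgk hg2
    have htS : t ∈ S := by
      have h1 : zpowers g ⊔ D ≤ Nm D := sup_le (zpowers_le.2 hg) le_normalizer
      have h2 : t ∈ (S : Subgroup G) := by
        rw [hSD]
        exact h1 htm
      exact h2
    have hyo : orderOf (g * k₁ * g⁻¹) = 4 := by
      rw [← ho₁]
      exact orderOf_injective (MulAut.conj g).toMonoidHom (MulAut.conj g).injective k₁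
    have ht1 : t ≠ 1 := by
      rintro rfl
      rw [one_mul, inv_one, mul_one] at htk
      have h1 : k₁ ∈ zpowers k₁ ⊓ zpowers k₂ := ⟨mem_zpowers _, by rw [htk]; exact hgk⟩
      rw [hi, mem_bot] at h1
      rw [h1, orderOf_one] at ho₁
      omega
    have hW : Cfsg.IsWreathed (S : Subgroup G) := by
      refine ⟨2, le_rfl, hSc, ⟨k₁, hDS hk1D⟩, ⟨g * k₁ * g⁻¹, hDS hyD⟩, ⟨t, htS⟩, ?_, ?_, ?_, ?_, ?_⟩
      · rw [Subgroup.orderOf_mk, ho₁]
        norm_num
      · exact Subtype.ext (sup_comm hk (hD.le hk1D) (hD.le hyD))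
      · rw [eq_bot_iff]
        rintro ⟨x, hx⟩ ⟨⟨i, hi1⟩, ⟨j, hj1⟩⟩
        have h1 : k₁ ^ i = x := congrArg Subtype.val hi1
        have h2 : (g * k₁ * g⁻¹) ^ j = x := congrArg Subtype.val hj1
        have h3 : x ∈ zpowers k₁ ⊓ zpowers k₂ := ⟨⟨i, h1⟩, by
          show x ∈ zpowers k₂
          rw [← h2]
          exact zpow_mem hgk j⟩
        rw [hi, mem_bot] at h3
        rw [mem_bot]
        exact Subtype.ext h3
      · rw [Subgroup.orderOf_mk]
        exact orderOf_eq_prime (by rw [pow_two, ht2]) ht1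
      · exact Subtype.ext htk
    obtain ⟨u, z, hw⟩ := Cfsg.Agent.TwoFusion.WreathedBasic.exists_wcoord' hW 2 hSc
    obtain ⟨Q₀, ⟨e₀⟩, -⟩ := Cfsg.Agent.TwoFusion.WreathedOddAut.exists_quaternion hw
    set Q := Q₀.map (S : Subgroup G).subtype with hQ
    have eQ' : Q₀ ≃* Q := Q₀.equivMapOfInjective _ (S : Subgroup G).subtype_injective
    have eQ : Q ≃* QuaternionGroup 2 := eQ'.symm.trans e₀
    have hQS : Q ≤ S := Subgroup.map_subtype_le _
    have hDab : IsMulCommutative D := ⟨⟨fun a b => Subtype.ext (sup_comm hk (hD.le a.2) (hD.le b.2))⟩⟩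
    have hDc' : Nat.card D = 2 ^ (2 * 2) := by rw [hDc]; norm_num
    have hCD : centralizer (D : Set G) = D := by
      apply le_antisymm
      · intro x hx
        rw [← hND]
        refine ⟨?_, centralizer_le_normalizer _ hx⟩
        show x ∈ A
        rw [hA]
        refine mem_centralizer_singleton_iff.2 ?_
        exact (mem_centralizer_iff.1 hx (k₁ ^ 2) (pow_mem hk1D 2)).symm
      · intro x hx
        rw [mem_centralizer_iff]
        intro y hy
        exact sup_comm hk (hD.le hy) (hD.le hx)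
    have hU2 : (centralizer (D : Set G)).relIndex (normalizer (D : Set G)) = 2 := by
      rw [hCD]
      exact hrel
    rcases (S1208.result S hW 2 hSc D hDS hDab hDc' Q hQS eQ).2 with hV | hV
    · -- normal 2-complement
      obtain ⟨⟨P, N, hN, hNP⟩, -⟩ := S1212.result S hW 2 hSc D hDS hDab hDc' Q hQS eQ hU2 hV
      have hPc : Nat.card (P : Subgroup G) = 32 := by
        have h1 := P.card_eq_multiplicity
        rw [hfac] at h1
        exact h1
      have h1 := hNP.card_mul_card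
      rw [hPc] at h1
      have hodd : Odd (Nat.card N) := by
        rw [← Nat.not_even_iff_odd, even_iff_two_dvd]
        rintro ⟨c, hc⟩
        apply h64
        rw [← h1, hc]
        exact ⟨c, by ring⟩
      rw [hO N hN hodd, card_bot] at h1
      omega
    · -- a normal subgroup with quaternion Sylow 2-subgroups
      obtain ⟨⟨K, hK, -, hKQ, -⟩, -⟩ := S1210.result S hW 2 hSc D hDS hDab hDc' Q hQS eQ hU2 hV
      obtain ⟨P⟩ : Nonempty (Sylow 2 K) := inferInstance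
      obtain ⟨m, hm, ⟨e⟩⟩ := hKQ P
      obtain ⟨n, rfl⟩ : ∃ n, m = n + 1 := ⟨m - 1, by omega⟩
      have hOK : ∀ N : Subgroup K, N.Normal → Odd (Nat.card N) → N = ⊥ := by
        intro N hN ho
        have h1 : N ≤ Cfsg.pPrimeCore 2 K :=
          Cfsg.Agent.Lib.Cores.le_pPrimeCore hN (Nat.coprime_two_right.2 ho)
        have h2 := Cfsg.Agent.Lib.Cores.map_subtype_pPrimeCore (G := G) 2 hK
        have h3 : K ⊓ Cfsg.pPrimeCore 2 G = ⊥ := by
          have h4 : Cfsg.pPrimeCore 2 G = ⊥ := hO _ (Cfsg.Agent.Lib.Cores.pPrimeCore_normal 2)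
            (Nat.coprime_two_right.1 (Cfsg.Agent.Lib.Cores.pPrimeCore_coprime 2))
          rw [h4, inf_bot_eq]
        rw [h3] at h2
        rw [eq_bot_iff]
        refine h1.trans ?_
        rw [(Subgroup.map_eq_bot_iff_of_injective _ K.subtype_injective).1 h2]
      have hZ := S0201.result P n e hOK
      have hZn : ((center K).map K.subtype).Normal := by
        have : (center K).Characteristic := inferInstance
        exact ConjAct.normal_of_characteristic_of_normal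
      have hZb := hab _ hZn (by
        rintro _ ⟨x, hx, rfl⟩ _ ⟨y, hy, rfl⟩
        exact congrArg Subtype.val (mem_center_iff.1 hy x))
      rw [Subgroup.map_eq_bot_iff_of_injective _ K.subtype_injective] at hZb
      rw [hZb, card_bot] at hZ
      omega

end Cfsg.Agent.H121.Five
end

-- part: H973/Five/Solvable
section
/-!
# S3568, solvable local action (helper973, for helper209)
-/

set_option autoImplicit false

open Pointwise

namespace Cfsg.Agent.H973.Five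

open Cfsg.Agent.H399 Cfsg.Agent.H209.Five

variable {G : Type*} [Group G]

theorem e80' [Finite G] : E80 G := by
  intro A D h1 h2 h3 h4 h5 k₁ k₂ h6 h7 h8 h9 h10 h11 h12 g h13 h14
  exact Cfsg.Agent.H121.Five.e80 h1 h2 h3 h4 h5 k₁ k₂ h6 h7 h8 h9 h10 h11 h12 g h13 h14

/-- **the solvable case** -/
theorem solvable_case [Finite G] {A B : Subgroup G} (h : Pr5 A B)
    (hA : ¬ 3 ∣ (core A (A ⊓ B)).relIndex A) (hB : ¬ 3 ∣ (core B (B ⊓ A)).relIndex B) :
    Nat.card A = 5 ∨ Nat.card A = 10 ∨ Nat.card A = 20 ∨ Nat.card A = 40 :=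
  solvable_case_of e80' h hA hB

end Cfsg.Agent.H973.Five
end

-- part: H604/Five/Side
section
/-!
# S3568, task P5B: the natural module (helper604)
-/

set_option autoImplicit false
set_option linter.unusedSectionVars false
set_option linter.unusedVariables false

open Pointwise

namespace Cfsg.Agent.H604.Five

open Cfsg.Agent.H399 Cfsg.Agent.H209.Five

variable {G : Type*} [Group G]

/-- `C₁ = C_{Q₁}(L₁)` -/
def CC (A B : Subgroup G) : Subgroup G := Op 2 A ⊓ Subgroup.centralizer (LL A B : Set G)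

theorem le_Nm_centralizer {A L : Subgroup G} (h : A ≤ Nm L) : A ≤ Nm (Subgroup.centralizer (L : Set G)) := by
  rw [le_Nm] at h ⊢
  intro a ha k hk
  rw [Subgroup.mem_centralizer_iff] at hk ⊢
  intro l hl
  have h1 := hk _ (h a⁻¹ (A.inv_mem ha) l hl)
  rw [inv_inv] at h1
  calc l * (a * k * a⁻¹) = a * ((a⁻¹ * l * a) * k) * a⁻¹ := by group
    _ = a * (k * (a⁻¹ * l * a)) * a⁻¹ := by rw [h1]
    _ = _ := by group

theorem mem_cent_iff {L : Subgroup G} {x : G} : x ∈ Subgroup.centralizer (L : Set G) ↔ ∀ l ∈ L, l * x = x * l :=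
  Subgroup.mem_centralizer_iff

theorem rel_ne {H K : Subgroup G} [Finite G] : H.relIndex K ≠ 0 := Subgroup.index_ne_zero_of_finite

/-- the hypotheses on one side -/
structure Side (A B : Subgroup G) (g : G) : Prop where
  p : Push A B g
  c₁ : ∀ x ∈ Op 2 A, ∀ y ∈ Op 2 A, x * y = y * x
  c₂ : ∀ x ∈ Op 2 B, ∀ y ∈ Op 2 B, x * y = y * x
  sup : Op 2 A ⊔ Op 2 B = Op 2 (A ⊓ B)
  i₁ : (Op 2 A ⊓ Op 2 B).relIndex (Op 2 A) = 4

section

variable [Finite G] {A B : Subgroup G} {g : G}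

namespace Side

theorem Q₂T (S : Side A B g) : Op 2 B ≤ Op 2 (A ⊓ B) := by
  rw [← S.sup]; exact le_sup_right

theorem TL (S : Side A B g) : Op 2 (A ⊓ B) ≤ LL A B := le_ncl _ _

theorem QL (S : Side A B g) : Op 2 A ≤ LL A B := S.p.QT.trans S.TL

theorem Q₂L (S : Side A B g) : Op 2 B ≤ LL A B := S.Q₂T.trans S.TL

theorem TD (S : Side A B g) : Op 2 (A ⊓ B) ≤ A ⊓ B := Op_le _ _

theorem LNm (S : Side A B g) : LL A B ≤ Nm (Op 2 A) := S.p.Lle.trans (le_Nm_Op 2 A)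

theorem ANmL (S : Side A B g) : A ≤ Nm (LL A B) := le_Nm_ncl _ _

theorem ANmC (S : Side A B g) : A ≤ Nm (CC A B) :=
  inf_le_Nm (le_Nm_Op 2 A) (le_Nm_centralizer S.ANmL)

theorem nm₂ (S : Side A B g) : Op 2 A ≤ Nm (Op 2 B) :=
  ((S.p.QT.trans S.TD).trans inf_le_right).trans (le_Nm_Op 2 B)

theorem nm₁ (S : Side A B g) : Op 2 B ≤ Nm (Op 2 A) :=
  ((S.Q₂T.trans S.TD).trans inf_le_left).trans (le_Nm_Op 2 A)

/-- `X = Q₁ ∩ Q₂` is central in `T` -/
theorem comm_X (S : Side A B g) {x t : G} (hx : x ∈ Op 2 A ⊓ Op 2 B) (ht : t ∈ Op 2 (A ⊓ B)) : t * x = x * t := by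
  rw [← S.sup] at ht
  obtain ⟨a, ha, b, hb, rfl⟩ := (mul_mem_sup_iff S.nm₂).1 ht
  rw [mul_assoc, S.c₂ b hb x hx.2, ← mul_assoc, S.c₁ a ha x hx.1, mul_assoc]

/-- `|Q₁ : C₁| ≤ 16` -/
theorem relIndex_le (S : Side A B g) : (CC A B).relIndex (Op 2 A) ≤ 16 := by
  obtain ⟨a, ha, hL⟩ := S.p.Lgen
  set X := Op 2 A ⊓ Op 2 B with hX
  have hY : X ⊓ cj a X ≤ CC A B := by
    intro y hy
    refine Subgroup.mem_inf.2 ⟨hy.1.1, ?_⟩
    have h1 : LL A B ≤ Subgroup.centralizer ({y} : Set G) := by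
      rw [hL]
      refine sup_le ?_ ?_
      · intro t ht
        rw [Subgroup.mem_centralizer_singleton_iff]
        exact S.comm_X hy.1 ht
      · intro t ht
        rw [Subgroup.mem_centralizer_singleton_iff]
        have h2 := mem_cj.1 ht
        have h3 := mem_cj.1 hy.2
        have h4 := S.comm_X h3 h2
        calc t * y = a * ((a⁻¹ * t * a) * (a⁻¹ * y * a)) * a⁻¹ := by group
          _ = a * ((a⁻¹ * y * a) * (a⁻¹ * t * a)) * a⁻¹ := by rw [h4]
          _ = _ := by group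
    rw [mem_cent_iff]
    intro l hl
    exact Subgroup.mem_centralizer_singleton_iff.1 (h1 hl)
  have h1 : (cj a X).relIndex (Op 2 A) = 4 := by
    rw [relIndex_cj_left, cj_of_mem_Nm (le_Nm_Op 2 A (A.inv_mem ha))]
    exact S.i₁
  have h2 : (X ⊓ cj a X).relIndex (Op 2 A) ≤ X.relIndex (Op 2 A) * (cj a X).relIndex (Op 2 A) :=
    Subgroup.relIndex_inf_le
  rw [S.i₁, h1] at h2
  refine le_trans ?_ h2
  exact Subgroup.relIndex_le_of_le_left hY rel_ne

theorem not_le_Q (S : Side A B g) : ¬ LL A B ≤ Op 2 A := by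
  intro h
  have h1 := S.p.Lcard
  rw [Subgroup.relIndex_eq_one.2 h] at h1
  omega

/-- `L₁` does not centralise `Q₁` -/
theorem not_cent (S : Side A B g) : ¬ Op 2 A ≤ Subgroup.centralizer (LL A B : Set G) := by
  intro h
  apply S.not_le_Q
  intro l hl
  apply S.p.cent l (S.p.Lle hl)
  intro y hy
  exact (mem_cent_iff.1 (h hy) l hl).symm

/-- `[U, L₁, L₁] = 1` implies `[U, L₁] = 1` -/
theorem three (S : Side A B g) {U : Subgroup G} (hU : U ≤ Op 2 A) (hL : LL A B ≤ Nm U)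
    (h : ∀ u ∈ U, ∀ l ∈ LL A B, l * u * l⁻¹ * u⁻¹ ∈ Subgroup.centralizer (LL A B : Set G)) :
    U ≤ Subgroup.centralizer (LL A B : Set G) := by
  set N := LL A B ⊓ Subgroup.centralizer (U : Set G) with hN
  have hcomm : ∀ x ∈ LL A B, ∀ y ∈ LL A B, x * y * x⁻¹ * y⁻¹ ∈ N := by
    intro x hx y hy
    refine Subgroup.mem_inf.2 ⟨(LL A B).mul_mem ((LL A B).mul_mem ((LL A B).mul_mem hx hy) ((LL A B).inv_mem hx))
      ((LL A B).inv_mem hy), ?_⟩
    rw [mem_cent_iff]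
    intro u hu
    -- `x⁻¹ u x = a u`, `y⁻¹ u y = b u`
    have hx' := (LL A B).inv_mem hx
    have hy' := (LL A B).inv_mem hy
    obtain ⟨a, ha⟩ : ∃ a, a = x⁻¹ * u * x * u⁻¹ := ⟨_, rfl⟩
    obtain ⟨b, hb⟩ : ∃ b, b = y⁻¹ * u * y * u⁻¹ := ⟨_, rfl⟩
    have ha1 : a ∈ Subgroup.centralizer (LL A B : Set G) := by
      have := h u hu x⁻¹ hx'
      rwa [inv_inv, ← ha] at this
    have hb1 : b ∈ Subgroup.centralizer (LL A B : Set G) := by
      have := h u hu y⁻¹ hy'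
      rwa [inv_inv, ← hb] at this
    have ha2 : a ∈ U := by
      have := le_Nm.1 hL x⁻¹ hx' u hu
      rw [inv_inv] at this
      rw [ha]
      exact U.mul_mem this (U.inv_mem hu)
    have hb2 : b ∈ U := by
      have := le_Nm.1 hL y⁻¹ hy' u hu
      rw [inv_inv] at this
      rw [hb]
      exact U.mul_mem this (U.inv_mem hu)
    have e1 : x⁻¹ * u * x = a * u := by rw [ha]; group
    have e2 : y⁻¹ * u * y = b * u := by rw [hb]; group
    have e3 : (x * y)⁻¹ * u * (x * y) = a * b * u := by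
      calc (x * y)⁻¹ * u * (x * y) = y⁻¹ * (x⁻¹ * u * x) * y := by group
        _ = y⁻¹ * a * u * y := by rw [e1]; group
        _ = a * y⁻¹ * u * y := by rw [mem_cent_iff.1 ha1 _ hy']
        _ = a * (y⁻¹ * u * y) := by group
        _ = a * b * u := by rw [e2, mul_assoc]
    have e4 : (y * x)⁻¹ * u * (y * x) = b * a * u := by
      calc (y * x)⁻¹ * u * (y * x) = x⁻¹ * (y⁻¹ * u * y) * x := by group
        _ = x⁻¹ * b * u * x := by rw [e2]; group
        _ = b * x⁻¹ * u * x := by rw [mem_cent_iff.1 hb1 _ hx']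
        _ = b * (x⁻¹ * u * x) := by group
        _ = b * a * u := by rw [e1, mul_assoc]
    have e5 : (x * y)⁻¹ * u * (x * y) = (y * x)⁻¹ * u * (y * x) := by
      rw [e3, e4, S.c₁ a (hU ha2) b (hU hb2)]
    calc u * (x * y * x⁻¹ * y⁻¹) = (x * y) * ((x * y)⁻¹ * u * (x * y)) * (x⁻¹ * y⁻¹) := by group
      _ = (x * y) * ((y * x)⁻¹ * u * (y * x)) * (x⁻¹ * y⁻¹) := by rw [e5]
      _ = _ := by group
  have hQN : Op 2 A ≤ N := by
    intro q hq
    refine Subgroup.mem_inf.2 ⟨S.QL hq, ?_⟩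
    rw [mem_cent_iff]
    intro u hu
    exact S.c₁ u (hU hu) q hq
  have hLN : LL A B ≤ Nm N := inf_le_Nm (self_le_Nm _) (le_Nm_centralizer hL)
  rcases S.p.simple N inf_le_left hQN hLN with h1 | h1
  · exfalso
    obtain ⟨x, hx, y, hy, hxy⟩ := S.p.nonab
    exact hxy (h1 ▸ hcomm x hx y hy)
  · intro u hu
    rw [mem_cent_iff]
    intro l hl
    have h2 : l ∈ N := by rw [h1]; exact hl
    exact (mem_cent_iff.1 h2.2 u hu).symm

theorem cardF : Nat.card (Fin 2 → F4) = 16 := by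
  rw [Nat.card_fun, Nat.card_fin]
  have : Nat.card F4 = 4 := by
    rw [GaloisField.card 2 2 (by norm_num)]
    norm_num
  rw [this]
  norm_num

/-- the index of the kernel of a map to the natural module -/
theorem relIndex_of {U W : Subgroup G} (ψ : ↥U → (Fin 2 → F4)) (hs : Function.Surjective ψ)
    (hm : ∀ x y : U, ψ (x * y) = ψ x + ψ y) (hk : ∀ u : U, ψ u = 0 ↔ (u : G) ∈ W) : W.relIndex U = 16 := by
  let f : U →* Multiplicative (Fin 2 → F4) := MonoidHom.mk' (fun u => Multiplicative.ofAdd (ψ u)) (fun x y => by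
    rw [hm]; rfl)
  have hf : f.ker = W.subgroupOf U := by
    ext u
    rw [MonoidHom.mem_ker, Subgroup.mem_subgroupOf, ← hk u]
    rfl
  rw [Subgroup.relIndex, ← hf, Subgroup.index_ker]
  have h1 : f.range = ⊤ := by
    rw [MonoidHom.range_eq_top]
    intro v
    obtain ⟨u, hu⟩ := hs (Multiplicative.toAdd v)
    exact ⟨u, by rw [MonoidHom.mk'_apply, hu]; rfl⟩
  rw [h1, Subgroup.card_top, ← cardF]
  rfl

/-- **the natural module** -/
theorem exists_nat (S : Side A B g) : ∃ ρ ψ, NatMod (Op 2 A) (LL A B) ρ ψ := by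
  classical
  have hC1 : CC A B ≤ Op 2 A := inf_le_left
  have hLC : LL A B ≤ Nm (CC A B) := S.p.Lle.trans S.ANmC
  have hfin : Set.Finite {U : Subgroup G | CC A B ≤ U ∧ CC A B ≠ U ∧ U ≤ Op 2 A ∧ LL A B ≤ Nm U} := Set.toFinite _
  obtain ⟨U, hU⟩ := hfin.exists_minimal ⟨Op 2 A, hC1, fun h => S.not_cent (by
    rw [← h]; exact inf_le_right), le_rfl, S.LNm⟩
  obtain ⟨h1, h2, h3, h4⟩ := hU.prop
  have hmin : ∀ N, CC A B ≤ N → N ≤ U → LL A B ≤ Nm N → N = CC A B ∨ N = U := by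
    intro N hN1 hN2 hN3
    by_cases h5 : CC A B = N
    · exact Or.inl h5.symm
    · right
      exact le_antisymm hN2 (hU.le_of_le ⟨hN1, h5, hN2.trans h3, hN3⟩ hN2)
  have hnc : ¬ (∀ u ∈ U, ∀ l ∈ LL A B, l * u * l⁻¹ * u⁻¹ ∈ CC A B) := by
    intro h5
    have h6 := S.three h3 h4 fun u hu l hl => (h5 u hu l hl).2
    exact h2 (le_antisymm h1 (le_inf h3 h6))
  obtain ⟨ρ, ψ, hρ, hψ, hmul, hker, hkerQ, hact⟩ := S.p.chief U (CC A B) h1 h3 h4 hLC h2 hmin hnc
  have h5 : (CC A B).relIndex U = 16 := relIndex_of ψ hψ hmul hkerQ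
  have h6 : U = Op 2 A := by
    refine le_antisymm h3 ?_
    rw [← Subgroup.relIndex_eq_one]
    have h7 := Subgroup.relIndex_mul_relIndex _ _ _ h1 h3
    rw [h5] at h7
    have h8 := S.relIndex_le
    have h9 : U.relIndex (Op 2 A) ≠ 0 := rel_ne
    omega
  subst h6
  refine ⟨ρ, ψ, hρ, hψ, hmul, ?_, ?_, hact⟩
  · -- the kernel
    set N := ρ.ker.map (LL A B).subtype with hN
    have hNL : N ≤ LL A B := Subgroup.map_subtype_le _
    have hmem : ∀ l : LL A B, (l : G) ∈ N ↔ ρ l = 1 := by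
      intro l
      constructor
      · rintro ⟨l', hl', he⟩
        have : l' = l := Subtype.ext he
        rw [← this]
        exact hl'
      · intro hl
        exact ⟨l, hl, rfl⟩
    have hQN : Op 2 A ≤ N := by
      intro q hq
      refine (hmem ⟨q, S.QL hq⟩).2 ((hker _).2 fun u hu => ?_)
      have h7 : q * u * q⁻¹ * u⁻¹ = 1 := by
        rw [S.c₁ q hq u hu]; group
      change q * u * q⁻¹ * u⁻¹ ∈ _
      rw [h7]
      exact one_mem _
    have hLN : LL A B ≤ Nm N := by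
      rw [le_Nm]
      rintro l hl _ ⟨k, hk, rfl⟩
      refine ⟨⟨l, hl⟩ * k * ⟨l, hl⟩⁻¹, ?_, rfl⟩
      rw [SetLike.mem_coe, MonoidHom.mem_ker] at hk ⊢
      rw [map_mul, map_mul, hk, mul_one, ← map_mul, mul_inv_cancel, map_one]
    intro l
    rcases S.p.simple N hNL hQN hLN with h7 | h7
    · rw [← hmem, h7]
    · exfalso
      obtain ⟨l, hl⟩ := hρ (⟨!![1, 1; 0, 1], by simp [Matrix.det_fin_two]⟩ : SL24)
      have h8 : ρ l = 1 := (hmem l).1 (by rw [h7]; exact l.2)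
      rw [h8] at hl
      have h9 := congrArg (fun M : SL24 => M.1 0 1) hl
      simp at h9
  · intro q
    rw [hkerQ]
    exact ⟨fun h => h.2, fun h => ⟨q.2, h⟩⟩

theorem DL (S : Side A B g) : (A ⊓ B).relIndex (LL A B) = 5 := by
  have h1 := relIndex_sup_of_right (H := A ⊓ B) (N := LL A B) (inf_le_left.trans S.ANmL)
  rw [← h1]
  have h2 : A ⊓ B ⊔ LL A B = A := by
    refine le_antisymm (sup_le inf_le_left S.p.Lle) ?_
    rw [sup_comm]
    exact S.p.LD
  rw [h2]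
  exact S.p.pr.idx

/-- an element of order 3 of `L₁ ∩ D` -/
theorem exists_three (S : Side A B g) : ∃ d ∈ LL A B, d ∈ A ⊓ B ∧ orderOf d = 3 := by
  have h1 := S.DL
  have h2 := card_inf_mul_relIndex (LL A B) (A ⊓ B)
  have h3 := card_mul_relIndex S.QL
  rw [S.p.Lcard] at h3
  rw [h1, ← h3] at h2
  have h4 : 3 ∣ Nat.card ↥(A ⊓ B ⊓ LL A B) := by omega
  have : Fact (Nat.Prime 3) := ⟨Nat.prime_three⟩
  obtain ⟨d, hd⟩ := exists_prime_orderOf_dvd_card' 3 h4
  exact ⟨d, d.2.2, d.2.1, by rw [Subgroup.orderOf_coe, hd]⟩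

/-- elements of order 3 are not in `Q₁`, nor are their squares -/
theorem sq_not_mem {X : Subgroup G} (hX : IsPGroup 2 X) {d : G} (hd : orderOf d = 3) : d * d ∉ X := by
  intro h
  have h1 : orderOf (d * d) = 3 := by
    rw [← pow_two, Nat.Coprime.orderOf_pow (by rw [hd]; norm_num), hd]
  obtain ⟨k, hk⟩ := IsPGroup.iff_orderOf.1 hX ⟨d * d, h⟩
  rw [Subgroup.orderOf_mk, h1] at hk
  have h2 : 3 ∣ 2 ^ k := by rw [← hk]
  have h3 := Nat.prime_three.dvd_of_dvd_pow h2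
  omega

end Side

end

end Cfsg.Agent.H604.Five
end

-- part: H604/Five/NatFive
section
/-!
# S3568, task P5B: `push_nat5` (helper604)
-/

set_option autoImplicit false
set_option linter.unusedSectionVars false
set_option linter.unusedVariables false

open Pointwise
open scoped commutatorElement

namespace Cfsg.Agent.H604.Five

open Cfsg.Agent.H399 Cfsg.Agent.H209.Five

variable {G : Type*} [Group G]

theorem cj_centralizer (x : G) (L : Subgroup G) :
    cj x (Subgroup.centralizer (L : Set G)) = Subgroup.centralizer (cj x L : Set G) := by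
  ext y
  rw [mem_cj, mem_cent_iff, mem_cent_iff]
  constructor
  · intro h l hl
    have h1 := h _ (mem_cj.1 hl)
    calc l * y = x * ((x⁻¹ * l * x) * (x⁻¹ * y * x)) * x⁻¹ := by group
      _ = x * ((x⁻¹ * y * x) * (x⁻¹ * l * x)) * x⁻¹ := by rw [h1]
      _ = _ := by group
  · intro h l hl
    have h1 := h _ (conj_mem_cj.2 hl)
    calc l * (x⁻¹ * y * x) = x⁻¹ * ((x * l * x⁻¹) * y) * x := by group
      _ = x⁻¹ * (y * (x * l * x⁻¹)) * x := by rw [h1]
      _ = _ := by group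

theorem cj_commutator (x : G) (H K : Subgroup G) : cj x ⁅H, K⁆ = ⁅cj x H, cj x K⁆ := by
  rw [cj_eq_map, cj_eq_map, cj_eq_map, Subgroup.map_commutator]

theorem le_Nm_commutator {A H K : Subgroup G} (hH : A ≤ Nm H) (hK : A ≤ Nm K) : A ≤ Nm ⁅H, K⁆ := by
  rw [le_Nm'] at *
  intro a ha
  rw [cj_commutator, hH a ha, hK a ha]

section

variable [Finite G] {A B : Subgroup G} {g : G}

namespace Side

theorem card_Q (S : Side A B g) : Nat.card ↥(Op 2 A ⊓ Op 2 B) * 4 = Nat.card (Op 2 A) := by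
  rw [← S.i₁]
  exact card_mul_relIndex inf_le_left

theorem card_C (S : Side A B g) : Nat.card (Op 2 A) = 16 * Nat.card (CC A B) := by
  obtain ⟨ρ, ψ, h⟩ := S.exists_nat
  exact h.card

theorem nondeg (S : Side A B g) {x y : G} (hx : x ∈ Op 2 A) (hy : y ∈ Op 2 B) (hxy : x * y = y * x) :
    x ∈ Op 2 B ∨ y ∈ Op 2 A := by
  by_cases hyQ : y ∈ Op 2 A
  · exact Or.inr hyQ
  left
  obtain ⟨ρ, ψ, h⟩ := S.exists_nat
  set Y := Op 2 A ⊓ Subgroup.centralizer ({y} : Set G) with hY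
  have h1 : Nat.card Y ≤ 4 * Nat.card (CC A B) := by
    refine h.card_fix S.LNm (S.Q₂L hy) hyQ inf_le_left fun z hz => ?_
    have h2 := Subgroup.mem_centralizer_singleton_iff.1 (Subgroup.mem_inf.1 hz).2
    have h3 : y * z * y⁻¹ * z⁻¹ = 1 := by rw [← h2]; group
    rw [h3]
    exact one_mem _
  have h2 := S.card_C
  have h3 := S.card_Q
  have hXY : Op 2 A ⊓ Op 2 B ≤ Y := by
    intro z hz
    refine Subgroup.mem_inf.2 ⟨hz.1, ?_⟩
    rw [Subgroup.mem_centralizer_singleton_iff]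
    exact S.c₂ z hz.2 y hy
  have h4 : Op 2 A ⊓ Op 2 B = Y := Subgroup.eq_of_le_of_card_ge hXY (by omega)
  have h5 : x ∈ Y := Subgroup.mem_inf.2 ⟨hx, Subgroup.mem_centralizer_singleton_iff.2 hxy⟩
  rw [← h4] at h5
  exact h5.2

theorem not_le (S : Side A B g) : ¬ Op 2 A ≤ Op 2 B := by
  intro h
  have h1 := S.i₁
  rw [inf_of_le_left h, Subgroup.relIndex_self] at h1
  omega

theorem C_le (S : Side A B g) (S' : Side B A g⁻¹) : CC A B ≤ Op 2 B := by
  intro c hc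
  obtain ⟨y, hy, hy'⟩ := SetLike.not_le_iff_exists.1 S'.not_le
  exact (S.nondeg hc.1 hy (mem_cent_iff.1 hc.2 y (S.Q₂L hy)).symm).resolve_right hy'

theorem D_le (S : Side A B g) : A ⊓ B ≤ Nm (CC A B) := inf_le_left.trans S.ANmC

theorem A_le (S : Side A B g) (S' : Side B A g⁻¹) : A ≤ Nm (CC A B ⊓ CC B A) := by
  refine S.p.LD.trans (sup_le ?_ ?_)
  · rw [le_Nm]
    intro l hl k hk
    have h1 := mem_cent_iff.1 hk.1.2 l hl
    have h2 : l * k * l⁻¹ = k := by rw [h1]; group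
    rw [h2]
    exact hk
  · refine inf_le_Nm S.D_le ?_
    rw [inf_comm]
    exact S'.D_le

theorem C_inf (S : Side A B g) (S' : Side B A g⁻¹) : CC A B ⊓ CC B A = ⊥ := by
  apply S.p.pr.U
  · refine le_inf ?_ ?_
    · exact (inf_le_left.trans inf_le_left).trans (Op_le 2 A)
    · exact (inf_le_right.trans inf_le_left).trans (Op_le 2 B)
  · exact S.A_le S'
  · rw [inf_comm]
    exact S'.A_le (by rw [inv_inv]; exact S)

theorem swap (S : Side A B g) : Side A B (g⁻¹)⁻¹ := by rw [inv_inv]; exact S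

/-- an element of order 3 of `L₂` fixes no element of `C₁` -/
theorem no_fix (S : Side A B g) (S' : Side B A g⁻¹) {d c : G} (hd : d ∈ LL B A) (h3 : orderOf d = 3)
    (hc : c ∈ CC A B) (hc1 : c ≠ 1) : d * c * d⁻¹ * c⁻¹ ≠ 1 := by
  intro h
  obtain ⟨ρ, ψ, hn⟩ := S'.exists_nat
  have h1 : c ∉ Subgroup.centralizer (LL B A : Set G) := by
    intro h1
    have h2 : c ∈ CC A B ⊓ CC B A := ⟨hc, S.C_le S' hc, h1⟩
    rw [S.C_inf S', Subgroup.mem_bot] at h2
    exact hc1 h2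
  have h2 := hn.sq_mem S'.LNm hd (S.C_le S' hc) (by rw [h]; exact one_mem _) h1
  exact sq_not_mem (isPGroup_Op 2 B) h3 h2

/-- `V₁ = [Q₁, L₁]` -/
theorem V_le (S : Side A B g) : ⁅Op 2 A, LL A B⁆ ≤ Op 2 A := by
  rw [Subgroup.commutator_le]
  intro q hq l hl
  have h1 := le_Nm.1 S.LNm l hl q⁻¹ ((Op 2 A).inv_mem hq)
  have h2 : ⁅q, l⁆ = q * (l * q⁻¹ * l⁻¹) := by rw [commutatorElement_def]; group
  rw [h2]
  exact (Op 2 A).mul_mem hq h1

theorem ANmV (S : Side A B g) : A ≤ Nm ⁅Op 2 A, LL A B⁆ := le_Nm_commutator (le_Nm_Op 2 A) S.ANmL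

theorem V_sup (S : Side A B g) : ⁅Op 2 A, LL A B⁆ ⊔ CC A B = Op 2 A := by
  obtain ⟨ρ, ψ, h⟩ := S.exists_nat
  have h1 : ¬ ⁅Op 2 A, LL A B⁆ ≤ Subgroup.centralizer (LL A B : Set G) := by
    intro h1
    apply S.not_cent
    apply S.three le_rfl S.LNm
    intro u hu l hl
    apply h1
    rw [Subgroup.commutator_comm]
    exact Subgroup.commutator_mem_commutator hl hu
  obtain ⟨v, hv, hv'⟩ := SetLike.not_le_iff_exists.1 h1
  exact h.eq_of_invariant S.LNm (sup_le S.V_le inf_le_left)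
    (sup_le_Nm (S.p.Lle.trans S.ANmV) (S.p.Lle.trans S.ANmC)) le_sup_right (Subgroup.mem_sup_left hv) hv'

/-- the central part of an element of `V₂` -/
theorem key (S : Side A B g) (S' : Side B A g⁻¹) (hV : ⁅Op 2 B, LL B A⁆ ⊓ CC B A = ⊥) {t c₁ c₂ : G}
    (ht : t ∈ ⁅Op 2 B, LL B A⁆) (h1 : c₁ ∈ CC A B) (h2 : c₂ ∈ CC B A) (he : t = c₁ * c₂) : c₂ = 1 := by
  by_contra hne
  obtain ⟨d, hdL, hdD, h3⟩ := S.exists_three
  have hd1 : d * c₁ = c₁ * d := mem_cent_iff.1 h1.2 d hdL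
  have hdc : d * c₂ * d⁻¹ ∈ CC B A := le_Nm.1 S'.ANmC d hdD.2 c₂ h2
  have hc1Q : c₁ ∈ Op 2 B := S.C_le S' h1
  have hcomm : c₁ * (d * c₂ * d⁻¹) = (d * c₂ * d⁻¹) * c₁ := S.c₂ _ hc1Q _ hdc.1
  have hcomm2 : c₁ * c₂ = c₂ * c₁ := S.c₂ _ hc1Q _ h2.1
  have e1 : d * t * d⁻¹ * t⁻¹ = d * c₂ * d⁻¹ * c₂⁻¹ := by
    rw [he]
    calc d * (c₁ * c₂) * d⁻¹ * (c₁ * c₂)⁻¹ = (d * c₁) * c₂ * d⁻¹ * (c₂⁻¹ * c₁⁻¹) := by group
      _ = (c₁ * d) * c₂ * d⁻¹ * (c₂⁻¹ * c₁⁻¹) := by rw [hd1]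
      _ = (c₁ * (d * c₂ * d⁻¹)) * (c₁ * c₂)⁻¹ := by group
      _ = ((d * c₂ * d⁻¹) * c₁) * (c₂ * c₁)⁻¹ := by rw [hcomm, hcomm2]
      _ = _ := by group
  have h4 : d * t * d⁻¹ * t⁻¹ ∈ ⁅Op 2 B, LL B A⁆ :=
    Subgroup.mul_mem _ (le_Nm.1 S'.ANmV d hdD.2 t ht) (Subgroup.inv_mem _ ht)
  have h5 : d * c₂ * d⁻¹ * c₂⁻¹ ∈ ⁅Op 2 B, LL B A⁆ ⊓ CC B A :=
    Subgroup.mem_inf.2 ⟨by rw [← e1]; exact h4, Subgroup.mul_mem _ hdc (Subgroup.inv_mem _ h2)⟩
  rw [hV, Subgroup.mem_bot] at h5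
  exact S'.no_fix S.swap hdL h3 h2 hne h5

end Side

/-- TASK P5B -/
theorem push_nat5 (h : Push A B g) (h' : Push B A g⁻¹) (hc₁ : ∀ x ∈ Op 2 A, ∀ y ∈ Op 2 A, x * y = y * x)
    (hs₁ : ∀ x ∈ Op 2 A, x * x = 1) (hc₂ : ∀ x ∈ Op 2 B, ∀ y ∈ Op 2 B, x * y = y * x)
    (hs₂ : ∀ x ∈ Op 2 B, x * x = 1) (hsup : Op 2 A ⊔ Op 2 B = Op 2 (A ⊓ B))
    (hi₁ : (Op 2 A ⊓ Op 2 B).relIndex (Op 2 A) = 4) (hi₂ : (Op 2 A ⊓ Op 2 B).relIndex (Op 2 B) = 4) :
    ∃ m, Nat5 A B g m := by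
  have S : Side A B g := ⟨h, hc₁, hc₂, hsup, hi₁⟩
  have S' : Side B A g⁻¹ := ⟨h', hc₂, hc₁, by rw [sup_comm, inf_comm]; exact hsup, by rw [inf_comm]; exact hi₂⟩
  obtain ⟨m, hm⟩ : ∃ m, m = Nat.card ↥(Op 2 A ⊓ Op 2 B) := ⟨_, rfl⟩
  have hQ1 := S.card_Q
  have hQ2 := S'.card_Q
  rw [inf_comm] at hQ2
  rw [← hm] at hQ1 hQ2
  have hpair : QPair (Op 2 A) (Op 2 B) (4 * m) m :=
    { ea₁ := ⟨by omega, hc₁, hs₁⟩
      ea₂ := ⟨by omega, hc₂, hs₂⟩
      inf := hm.symm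
      nm₁ := S.nm₁
      nm₂ := S.nm₂
      nondeg := fun x hx y hy hxy => S.nondeg hx hy hxy }
  have hm0 : 0 < m := by rw [hm]; exact Nat.card_pos
  have hlt : m < 4 * m := by omega
  -- `g`
  have gQ : cj g (Op 2 A) = Op 2 B := by rw [cj_Op, h.gA]
  have gT : g ∈ Nm (Op 2 A ⊔ Op 2 B) := by
    rw [hsup, mem_Nm, cj_Op, h.gD]
  have gQ' : cj g (Op 2 B) = Op 2 A := by
    rcases hpair.perm hlt gT with h1 | h1
    · exfalso
      apply S.not_le
      rw [← gQ, h1.1]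
    · exact h1.2
  have hne1 : Op 2 A ≠ ⊥ := by
    intro h1
    apply S.not_le
    rw [h1]
    exact bot_le
  have hne2 : Op 2 B ≠ ⊥ := by
    intro h1
    apply S'.not_le
    rw [h1]
    exact bot_le
  have hN1 : Nm (Op 2 A) = A := h.pr.Nm_eq (Op_le 2 A) hne1 (le_Nm_Op 2 A)
  have hN2 : Nm (Op 2 B) = B := h'.pr.Nm_eq (Op_le 2 B) hne2 (le_Nm_Op 2 B)
  have gB : cj g B = A := by
    have h1 := cj_Nm g (Op 2 B)
    rw [gQ', hN1, hN2] at h1
    exact h1
  -- the orders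
  have hC1 := S.card_C
  have hC2 := S'.card_C
  obtain ⟨c, hc⟩ : ∃ c, c = Nat.card (CC A B) := ⟨_, rfl⟩
  have hmc : m = 4 * c := by omega
  have hc' : Nat.card (CC B A) = c := by omega
  have hC1X : CC A B ≤ Op 2 A ⊓ Op 2 B := le_inf inf_le_left (S.C_le S')
  have hC2X : CC B A ≤ Op 2 A ⊓ Op 2 B := le_inf (S'.C_le S.swap) inf_le_left
  have hsupC : Nat.card ↥(CC A B ⊔ CC B A) = c * c := by
    have h1 := card_sup (H := CC A B) (N := CC B A) (by
      rw [le_Nm]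
      intro x hx y hy
      have h2 := hc₁ x hx.1 y (hC2X hy).1
      have h3 : x * y * x⁻¹ = y := by rw [h2]; group
      rw [h3]
      exact hy)
    rw [S.C_inf S', Subgroup.card_bot, mul_one, hc', ← hc] at h1
    exact h1
  have hsupX : CC A B ⊔ CC B A ≤ Op 2 A ⊓ Op 2 B := sup_le hC1X hC2X
  have hc0 : 0 < c := by rw [hc]; exact Nat.card_pos
  have hc4 : c ≤ 4 := by
    have h1 : Nat.card ↥(CC A B ⊔ CC B A) ≤ Nat.card ↥(Op 2 A ⊓ Op 2 B) :=
      Nat.le_of_dvd Nat.card_pos (Subgroup.card_dvd_of_le hsupX)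
    rw [hsupC, ← hm, hmc] at h1
    exact Nat.le_of_mul_le_mul_right h1 hc0
  have hcp : ∃ k, c = 2 ^ k := by
    rw [hc]
    exact IsPGroup.iff_card.1 ((isPGroup_Op 2 A).to_le inf_le_left)
  have hc3 : c ≠ 3 := by
    rintro rfl
    obtain ⟨k, hk⟩ := hcp
    have h1 : 3 ∣ 2 ^ k := by rw [← hk]
    have h2 := Nat.prime_three.dvd_of_dvd_pow h1
    omega
  obtain ⟨d, hdL, hdD, hd3⟩ := S'.exists_three
  have hdA : d ∈ A := hdD.2
  have hc2 : c ≠ 2 := by
    rintro rfl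
    have h1 : CC A B ≠ ⊥ := by
      intro h2
      rw [h2, Subgroup.card_bot] at hc
      omega
    obtain ⟨x, hx, hx1⟩ := (Subgroup.ne_bot_iff_exists_ne_one (H := CC A B)).1 h1 |>.elim fun a ha =>
      (⟨a, a.2, fun h => ha (Subtype.ext h)⟩ : ∃ x : G, x ∈ CC A B ∧ x ≠ 1)
    have h3 := le_Nm.1 S.ANmC d hdA x hx
    have h4 : d * x * d⁻¹ ≠ 1 := by
      intro h5
      apply hx1
      have : x = d⁻¹ * (d * x * d⁻¹) * d := by group
      rw [this, h5]; group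
    have h5 : d * x * d⁻¹ = x := by
      have h6 := (Nat.card_eq_two_iff' (1 : CC A B)).1 hc.symm
      have h7 := h6.unique (y₁ := ⟨_, h3⟩) (y₂ := ⟨x, hx⟩) (fun h => h4 (congrArg Subtype.val h))
        (fun h => hx1 (congrArg Subtype.val h))
      exact congrArg Subtype.val h7
    apply S.no_fix S' hdL hd3 hx hx1
    rw [h5]; group
  have hc14 : c = 1 ∨ c = 4 := by omega
  -- perfectness
  have hV := S.V_sup
  have hCV : CC A B ≤ ⁅Op 2 A, LL A B⁆ := by
    rcases hc14 with h1 | h1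
    · rw [h1] at hc
      rw [Subgroup.card_eq_one.1 hc.symm]
      exact bot_le
    -- `m = 16`
    have hne : ⁅Op 2 A, LL A B⁆ ⊓ CC A B ≠ ⊥ := by
      intro hb
      have gL : cj g (LL A B) = LL B A := by
        rw [LL, cj_ncl, h.gA, cj_Op, h.gD, LL, inf_comm]
      have e1 : cj g ⁅Op 2 A, LL A B⁆ = ⁅Op 2 B, LL B A⁆ := by rw [cj_commutator, gQ, gL]
      have e2 : cj g (CC A B) = CC B A := by
        rw [CC, cj_inf, cj_centralizer, gQ, gL]; rfl
      have hb2 : ⁅Op 2 B, LL B A⁆ ⊓ CC B A = ⊥ := by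
        rw [← e1, ← e2, ← cj_inf, hb, cj_bot]
      obtain ⟨q₁, hq₁, hq₁'⟩ := SetLike.not_le_iff_exists.1 S.not_le
      obtain ⟨q₂, hq₂, hq₂'⟩ := SetLike.not_le_iff_exists.1 S'.not_le
      have ht1 : ⁅q₁, q₂⁆ ∈ ⁅Op 2 A, LL A B⁆ := Subgroup.commutator_mem_commutator hq₁ (S.Q₂L hq₂)
      have ht2 : ⁅q₁, q₂⁆ ∈ ⁅Op 2 B, LL B A⁆ := by
        rw [Subgroup.commutator_comm]
        exact Subgroup.commutator_mem_commutator (S'.Q₂L hq₁) hq₂
      have htX : ⁅q₁, q₂⁆ ∈ CC A B ⊔ CC B A := by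
        have hX : CC A B ⊔ CC B A = Op 2 A ⊓ Op 2 B :=
          Subgroup.eq_of_le_of_card_ge hsupX (by rw [hsupC, ← hm, hmc, h1])
        rw [hX]
        exact Subgroup.mem_inf.2 ⟨S.V_le ht1, S'.V_le ht2⟩
      obtain ⟨c₁, hc₁', c₂, hc₂', he⟩ := (mul_mem_sup_iff (X := CC A B) (Y := CC B A) (by
        rw [le_Nm]
        intro x hx y hy
        have h2 := hc₁ x hx.1 y (hC2X hy).1
        have h3 : x * y * x⁻¹ = y := by rw [h2]; group
        rw [h3]
        exact hy)).1 htX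
      have h2 : c₂ = 1 := S.key S' hb2 ht2 hc₁' hc₂' he.symm
      have h3 : c₁ = 1 := S'.key S.swap hb ht1 hc₂' hc₁' (by
        rw [← he]
        exact hc₁ c₁ hc₁'.1 c₂ (hC2X hc₂').1)
      rw [h2, h3, mul_one] at he
      have h4 : q₁ * q₂ = q₂ * q₁ := commutatorElement_eq_one_iff_mul_comm.1 he.symm
      rcases S.nondeg hq₁ hq₂ h4 with h5 | h5
      · exact hq₁' h5
      · exact hq₂' h5
    obtain ⟨x, hx, hx1⟩ : ∃ x : G, x ∈ ⁅Op 2 A, LL A B⁆ ⊓ CC A B ∧ x ≠ 1 := by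
      obtain ⟨a, ha⟩ := Subgroup.ne_bot_iff_exists_ne_one.1 hne
      exact ⟨a, a.2, fun h => ha (Subtype.ext h)⟩
    have hy := le_Nm.1 (inf_le_Nm S.ANmV S.ANmC) d hdA x hx
    have hxy : d * x * d⁻¹ ≠ x := by
      intro h5
      apply S.no_fix S' hdL hd3 (Subgroup.mem_inf.1 hx).2 hx1
      rw [h5]; group
    have hy1 : d * x * d⁻¹ ≠ 1 := by
      intro h5
      apply hx1
      have : x = d⁻¹ * (d * x * d⁻¹) * d := by group
      rw [this, h5]; group
    have hE : 3 ≤ Nat.card ↥(⁅Op 2 A, LL A B⁆ ⊓ CC A B) := by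
      have : Fintype ↥(⁅Op 2 A, LL A B⁆ ⊓ CC A B) := Fintype.ofFinite _
      rw [Nat.card_eq_fintype_card]
      have h6 : Function.Injective (fun i : Fin 3 => (if i = 0 then ⟨x, hx⟩ else if i = 1 then ⟨_, hy⟩ else 1 :
          ↥(⁅Op 2 A, LL A B⁆ ⊓ CC A B))) := by
        intro i j hij
        have h7 := congrArg Subtype.val hij
        fin_cases i <;> fin_cases j <;> simp at h7 ⊢
        · exact hxy h7.symm
        · exact hx1 h7
        · exact hxy h7
        · exact hy1 (by simpa using h7)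
        · exact hx1 h7.symm
        · exact hy1 (by simpa using h7.symm)
      have := Fintype.card_le_of_injective _ h6
      simpa using this
    have hE4 : Nat.card ↥(⁅Op 2 A, LL A B⁆ ⊓ CC A B) ∣ 4 := by
      rw [← h1, hc]
      exact Subgroup.card_dvd_of_le inf_le_right
    have hE5 : Nat.card ↥(⁅Op 2 A, LL A B⁆ ⊓ CC A B) = 4 := by
      have h6 := Nat.le_of_dvd (by norm_num) hE4
      interval_cases h7 : Nat.card ↥(⁅Op 2 A, LL A B⁆ ⊓ CC A B)
      · norm_num at hE4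
      · rfl
    have h8 : ⁅Op 2 A, LL A B⁆ ⊓ CC A B = CC A B :=
      Subgroup.eq_of_le_of_card_ge inf_le_right (by rw [hE5, ← hc, h1])
    rw [← h8]
    exact inf_le_left
  have hperf : Op 2 A ≤ ⁅Op 2 A, LL A B⁆ := by
    have h1 : ⁅Op 2 A, LL A B⁆ ⊔ CC A B ≤ ⁅Op 2 A, LL A B⁆ := sup_le le_rfl hCV
    rwa [hV] at h1
  refine ⟨m, ?_⟩
  exact
    { toNS := h.toNS
      hm := by omega
      gB := gB
      gQ := gQ
      gQ' := gQ'
      pair := hpair
      sup := hsup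
      cores := h.cores
      cent := h.cent
      Lle := h.Lle
      LD := h.LD
      QL := S.QL
      QK := h.QK
      LK := h.LK
      Lcard := h.Lcard
      comm := h.comm
      nat := S.exists_nat
      perf := hperf }

end

end Cfsg.Agent.H604.Five
end
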